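import Mathlib

/-!
# A module for a threefold cover with an element of order eleven

An elementary group of order `2 ^ 12` on which a central element `p` of order three lies in a nonabelian group of
order twenty-seven, and on whose part moved by `p` an element of order eleven acts nontrivially, has no vector
fixed by `p`; no element commuting with `p` then inverts an element of order eleven.
-/

set_option autoImplicit false
set_option linter.unusedSectionVars false
set_option linter.style.haveILetI false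

namespace CfsgLib.JFourConv

variable {W : Type*} [AddCommGroup W] [Finite W]

local notation "𝐄" => AddMonoid.End W

theorem card_mod_fixed {α : Type*} [Finite α] {r : ℕ} [Fact r.Prime] (σ : Equiv.Perm α) (h : σ ^ r = 1) :
    Nat.card α ≡ Nat.card {x : α // σ x = x} [MOD r] := by
  have hp : IsPGroup r ↥(Subgroup.zpowers σ) := by
    refine IsPGroup.iff_orderOf.2 fun g => ?_
    have hd : orderOf g ∣ r ^ 1 := by
      rw [pow_one]
      obtain ⟨i, hi⟩ := Subgroup.mem_zpowers_iff.1 g.2
      refine orderOf_dvd_of_pow_eq_one (Subtype.ext ?_)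
      rw [SubmonoidClass.coe_pow, ← hi, ← zpow_natCast, ← zpow_mul, mul_comm, zpow_mul, zpow_natCast, h, one_zpow]
      rfl
    obtain ⟨k, -, hk⟩ := (Nat.dvd_prime_pow Fact.out).1 hd
    exact ⟨k, hk⟩
  refine (hp.card_modEq_card_fixedPoints α).trans ?_
  rw [Nat.card_congr (Equiv.subtypeEquivRight fun x => ?_)]
  refine ⟨fun hx => hx ⟨σ, Subgroup.mem_zpowers σ⟩, fun hx g => ?_⟩
  obtain ⟨g, hg⟩ := g
  obtain ⟨i, rfl⟩ := Subgroup.mem_zpowers_iff.1 hg
  show (σ ^ i) x = x
  exact (MulAction.mem_stabilizer_iff.1 (Subgroup.zpow_mem (MulAction.stabilizer (Equiv.Perm α) x) hx i) :)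

theorem card_sub_pow (h2 : ∀ w : W, w + w = 0) (S : AddSubgroup W) : ∃ k, Nat.card ↥S = 2 ^ k := by
  haveI := Fact.mk Nat.prime_two
  have h := IsPGroup.iff_card (p := 2) (G := Multiplicative ↥S)
  obtain ⟨k, hk⟩ := h.1 fun g => ⟨1, by
    rw [pow_one, pow_two]
    exact Multiplicative.toAdd.injective (Subtype.ext (h2 _))⟩
  exact ⟨k, by rw [← hk]; rfl⟩

/-- The restriction of an element of finite order to an invariant subgroup. -/
noncomputable def restr {r : ℕ} (hr : 0 < r) {f : 𝐄} (hf : f ^ r = 1) (S : AddSubgroup W)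
    (hS : ∀ w ∈ S, f w ∈ S) : Equiv.Perm ↥S where
  toFun w := ⟨f w, hS w w.2⟩
  invFun w := ⟨(f ^ (r - 1)) w, by
    have : ∀ n, (f ^ n) (w : W) ∈ S := by
      intro n
      induction n with
      | zero => exact w.2
      | succ n ih => rw [pow_succ']; exact hS _ ih
    exact this _⟩
  left_inv w := Subtype.ext (show (f ^ (r - 1) * f) (w : W) = w by
    rw [← pow_succ, Nat.sub_add_cancel hr, hf]; rfl)
  right_inv w := Subtype.ext (show (f * f ^ (r - 1)) (w : W) = w by
    rw [← pow_succ', Nat.sub_add_cancel hr, hf]; rfl)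

theorem restr_pow {r : ℕ} (hr : 0 < r) {f : 𝐄} (hf : f ^ r = 1) (S : AddSubgroup W) (hS : ∀ w ∈ S, f w ∈ S)
    (n : ℕ) (w : ↥S) : ((restr hr hf S hS ^ n) w : W) = (f ^ n) (w : W) := by
  induction n with
  | zero => rfl
  | succ n ih =>
    rw [pow_succ', pow_succ']
    show f ((restr hr hf S hS ^ n) w : W) = f ((f ^ n) (w : W))
    rw [ih]

/-- The orbit congruence for an element of prime order on an invariant subgroup. -/
theorem card_mod_inv {r : ℕ} [hr : Fact r.Prime] {f : 𝐄} (hf : f ^ r = 1) (S : AddSubgroup W)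
    (hS : ∀ w ∈ S, f w ∈ S) :
    Nat.card ↥S ≡ Nat.card {w : ↥S // f (w : W) = w} [MOD r] := by
  refine (card_mod_fixed (r := r) (restr hr.out.pos hf S hS) (Equiv.ext fun w => Subtype.ext ?_)).trans ?_
  · rw [restr_pow, hf]; rfl
  · rw [Nat.card_congr (Equiv.subtypeEquivRight fun w => ?_)]
    exact ⟨fun h => congrArg Subtype.val h, fun h => Subtype.ext h⟩

/-- An invariant subgroup without fixed vectors. -/
theorem card_mod_fpf {r : ℕ} [Fact r.Prime] {f : 𝐄} (hf : f ^ r = 1) (S : AddSubgroup W)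
    (hS : ∀ w ∈ S, f w ∈ S) (h0 : ∀ w ∈ S, f w = w → w = 0) : Nat.card ↥S ≡ 1 [MOD r] := by
  refine (card_mod_inv hf S hS).trans ?_
  haveI : Unique {w : ↥S // f (w : W) = w} :=
    ⟨⟨⟨0, by simp⟩⟩, fun w => Subtype.ext (Subtype.ext (h0 _ w.1.2 w.2))⟩
  rw [Nat.card_unique]

theorem nrm_fix (h2 : ∀ w : W, w + w = 0) {f : 𝐄} {w : W} (h : f w = w) :
    (1 + f + f * f) w = w := by
  show w + f w + f (f w) = w
  rw [h, h, h2, zero_add]

theorem app_zero {f g : 𝐄} {u : W} (h : g u = 0) (hc : g * f = f * g) : g (f u) = 0 := by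
  show (g * f) u = 0
  rw [hc]
  show f (g u) = 0
  rw [h, map_zero]

/-- The part moved by `p` is everything. -/
theorem fixed_trivial (h2 : ∀ w : W, w + w = 0) (hcard : Nat.card W = 4096) {p a b b' x : 𝐄}
    (hp : p * p * p = 1) (ha : a * a * a = 1) (hbb : b * b' = 1) (hbb' : b' * b = 1) (hap : a * p = p * a)
    (hbp : b * p = p * b) (hba : b * a = a * p * b) (hx : x ^ 11 = 1) (hxp : x * p = p * x)
    (hu : ∃ u : W, (1 + p + p * p) u = 0 ∧ x u ≠ u) : ∀ w : W, p w = w → w = 0 := by
  haveI := Fact.mk Nat.prime_three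
  haveI : Fact (Nat.Prime 11) := ⟨by norm_num⟩
  obtain ⟨u, hu0, hux⟩ := hu
  set T : 𝐄 := 1 + p + p * p with hT
  let U : AddSubgroup W := AddMonoidHom.ker (T : W →+ W)
  have hU : ∀ w : W, w ∈ U ↔ T w = 0 := fun w => AddMonoidHom.mem_ker
  let U0 : AddSubgroup W :=
    { carrier := {w | T w = 0 ∧ a w = w}
      add_mem' := fun {v w} hv hw => ⟨by rw [map_add, hv.1, hw.1, add_zero], by rw [map_add, hv.2, hw.2]⟩
      zero_mem' := ⟨map_zero _, map_zero _⟩
      neg_mem' := fun {v} hv => ⟨by rw [map_neg, hv.1, neg_zero], by rw [map_neg, hv.2]⟩ }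
  have hb'p : b' * p = p * b' := by
    calc b' * p = b' * p * (b * b') := by rw [hbb, mul_one]
      _ = b' * (p * b) * b' := by noncomm_ring
      _ = b' * (b * p) * b' := by rw [hbp]
      _ = (b' * b) * p * b' := by noncomm_ring
      _ = _ := by rw [hbb', one_mul]
  have hTc : ∀ f : 𝐄, f * p = p * f → T * f = f * T := fun f hf => by
    rw [hT]
    calc (1 + p + p * p) * f = f + p * f + p * (p * f) := by noncomm_ring
      _ = f + f * p + p * (f * p) := by rw [← hf]
      _ = f + f * p + (p * f) * p := by noncomm_ring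
      _ = f + f * p + (f * p) * p := by rw [← hf]
      _ = f * (1 + p + p * p) := by noncomm_ring
  have hab' : a * b' = b' * (a * p) := by
    calc a * b' = b' * (b * a) * b' := by rw [← mul_assoc b' b a, hbb', one_mul]
      _ = b' * (a * p * b) * b' := by rw [hba]
      _ = b' * (a * p) * (b * b') := by noncomm_ring
      _ = _ := by rw [hbb, mul_one]
  have hab'2 : a * (b' * b') = b' * b' * (a * p * p) := by
    calc a * (b' * b') = a * b' * b' := (mul_assoc _ _ _).symm
      _ = b' * a * (p * b') := by rw [hab']; noncomm_ring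
      _ = b' * a * (b' * p) := by rw [hb'p]
      _ = b' * (a * b') * p := by noncomm_ring
      _ = _ := by rw [hab']; noncomm_ring
  let C : ℕ → 𝐄 := fun i => a * p ^ i
  have hcp : ∀ i, C i * p = p * C i := fun i =>
    (((show Commute a p from hap).mul_left ((Commute.refl p).pow_left i))).eq
  have hp3 : p ^ 3 = 1 := by rw [pow_three, ← mul_assoc, hp]
  have hC3 : ∀ i, C i * C i * C i = 1 := fun i => by
    have hc : Commute a (p ^ i) := (show Commute a p from hap).pow_right i
    rw [← pow_three', hc.mul_pow, ← pow_mul, mul_comm, pow_mul, hp3, one_pow, mul_one, pow_three', ha]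
  let N : ℕ → 𝐄 := fun i => 1 + C i + C i * C i
  have hNfix : ∀ i (w : W), C i (N i w) = N i w := fun i w => by
    show (C i * (1 + C i + C i * C i)) w = (1 + C i + C i * C i) w
    congr 1
    rw [mul_add, mul_add, mul_one, ← mul_assoc (C i) (C i) (C i), hC3]; abel
  -- the products act on the fixed vectors as powers of `p`
  have hCfix : ∀ i j (w : W), C j w = w → C (i + j) w = (p ^ i) w := fun i j w hw => by
    have : C (i + j) = p ^ i * C j := by
      show a * p ^ (i + j) = p ^ i * (a * p ^ j)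
      rw [pow_add, ← mul_assoc (p ^ i), ← ((show Commute a p from hap).pow_right i).eq, mul_assoc]
    rw [this]
    show (p ^ i) (C j w) = _
    rw [hw]
  have hzero : ∀ (c : 𝐄) (w : W), T w = 0 → c * p = p * c → (c w = p w ∨ c w = p (p w)) →
      (1 + c + c * c) w = 0 := fun c w hw hc h => by
    have h' : w + p w + p (p w) = 0 := hw
    have hsw : ∀ v, c (p v) = p (c v) := fun v => DFunLike.congr_fun hc v
    have hp' : ∀ v, p (p (p v)) = v := fun v => DFunLike.congr_fun hp v
    show w + c w + c (c w) = 0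
    rcases h with h | h
    · rw [h, hsw, h]; exact h'
    · rw [h, hsw, hsw, h, hp', add_right_comm]; exact h'
  have hC : C 0 = a ∧ C 1 = a * p ∧ C 2 = a * p * p := by
    refine ⟨?_, ?_, ?_⟩
    · show a * p ^ 0 = a; rw [pow_zero, mul_one]
    · show a * p ^ 1 = a * p; rw [pow_one]
    · show a * p ^ 2 = a * p * p; rw [pow_two, mul_assoc]
  have hoff : ∀ i j, i < 3 → j < 3 → i ≠ j → ∀ w : W, T w = 0 → C j w = w → N i w = 0 := by
    intro i j hi hj hij w hw hfix
    refine hzero (C i) w hw (hcp i) ?_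
    have h1 := hCfix ((i + 3 - j) % 3) j w hfix
    have hi' : C ((i + 3 - j) % 3 + j) = C i := by
      show a * p ^ _ = a * p ^ i
      congr 1
      rw [← pow_mod_orderOf_aux hp3 ((i + 3 - j) % 3 + j), ← pow_mod_orderOf_aux hp3 i]
      congr 1
      omega
    rw [hi'] at h1
    have hlt : (i + 3 - j) % 3 = 1 ∨ (i + 3 - j) % 3 = 2 := by omega
    rcases hlt with e | e <;> rw [e] at h1
    · left; rwa [pow_one] at h1
    · right; rwa [pow_two] at h1
  have hmemT : ∀ (f : 𝐄), f * p = p * f → ∀ w, T w = 0 → T (f w) = 0 := fun f hf w hw =>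
    app_zero hw (hTc f hf)
  have hNp : ∀ i, N i * p = p * N i := fun i =>
    (((Commute.one_left p).add_left (hcp i)).add_left ((show Commute (C i) p from hcp i).mul_left (hcp i))).eq
  have hb2fix : ∀ w, T w = 0 → a w = w → C 1 (b w) = b w ∧ C 2 (b (b w)) = b (b w) := by
    intro w _ hw
    have h1 : ∀ v, b (a v) = a (p (b v)) := fun v => DFunLike.congr_fun hba v
    have hswap : ∀ v, b (p v) = p (b v) := fun v => DFunLike.congr_fun hbp v
    refine ⟨?_, ?_⟩
    · rw [hC.2.1]
      show a (p (b w)) = b w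
      rw [← h1, hw]
    · rw [hC.2.2]
      show a (p (p (b (b w)))) = b (b w)
      rw [← hswap (b w), ← h1 (p (b w))]
      congr 1
      rw [← h1, hw]
  have hcardU : Nat.card ↥U = Nat.card ↥U0 * (Nat.card ↥U0 * Nat.card ↥U0) := by
    rw [← Nat.card_prod, ← Nat.card_prod]
    have hsum : ∀ w, T w = 0 → N 0 w + N 1 w + N 2 w = w := fun w hw => by
      have e : N 0 + N 1 + N 2 = 1 + (1 + 1) + (a + a * a) * T := by
        have q0 : C 0 * C 0 = a * a := by rw [hC.1]
        have q1 : C 1 * C 1 = a * a * (p * p) := by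
          rw [hC.2.1]; exact (Commute.mul_mul_mul_comm (show Commute p a from hap.symm) a p)
        have q2 : C 2 * C 2 = a * a * p := by
          rw [hC.2.2, mul_assoc a p p, Commute.mul_mul_mul_comm
            ((show Commute p a from hap.symm).mul_left (show Commute p a from hap.symm)) a (p * p),
            ← mul_assoc (p * p), hp, one_mul]
        show 1 + C 0 + C 0 * C 0 + (1 + C 1 + C 1 * C 1) + (1 + C 2 + C 2 * C 2) = _
        rw [q0, q1, q2, hC.1, hC.2.1, hC.2.2, hT]
        noncomm_ring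
      calc N 0 w + N 1 w + N 2 w = (N 0 + N 1 + N 2) w := rfl
        _ = (1 + (1 + 1) + (a + a * a) * T) w := by rw [e]
        _ = w + (w + w) + (a + a * a) (T w) := rfl
        _ = w := by rw [hw, h2, map_zero, add_zero, add_zero]
    refine (Nat.card_eq_of_bijective (fun q : ↥U0 × ↥U0 × ↥U0 =>
      (⟨(q.1 : W) + b q.2.1 + b (b q.2.2), (hU _).2 ?_⟩ : ↥U)) ⟨fun q q' e => ?_, fun w => ?_⟩).symm
    · rw [map_add, map_add, q.1.2.1, hmemT b hbp _ q.2.1.2.1, hmemT b hbp _ (hmemT b hbp _ q.2.2.2.1), add_zero,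
        add_zero]
    · have e' : (q.1 : W) + b q.2.1 + b (b q.2.2) = (q'.1 : W) + b q'.2.1 + b (b q'.2.2) :=
        congrArg Subtype.val e
      have hN : ∀ (q : ↥U0 × ↥U0 × ↥U0),
          N 0 ((q.1 : W) + b q.2.1 + b (b q.2.2)) = q.1 ∧ N 1 ((q.1 : W) + b q.2.1 + b (b q.2.2)) = b q.2.1 ∧
            N 2 ((q.1 : W) + b q.2.1 + b (b q.2.2)) = b (b q.2.2) := by
        rintro ⟨⟨u0, hu0⟩, ⟨u1, hu1⟩, ⟨u2, hu2⟩⟩
        have f0 : C 0 u0 = u0 := by rw [hC.1]; exact hu0.2
        have f1 := (hb2fix u1 hu1.1 hu1.2).1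
        have f2 := (hb2fix u2 hu2.1 hu2.2).2
        have t1 := hmemT b hbp _ hu1.1
        have t2 := hmemT b hbp _ (hmemT b hbp _ hu2.1)
        refine ⟨?_, ?_, ?_⟩ <;> simp only [map_add]
        · rw [nrm_fix h2 f0, hoff 0 1 (by norm_num) (by norm_num) (by norm_num) _ t1 f1,
            hoff 0 2 (by norm_num) (by norm_num) (by norm_num) _ t2 f2, add_zero, add_zero]
        · rw [nrm_fix h2 f1, hoff 1 0 (by norm_num) (by norm_num) (by norm_num) _ hu0.1 f0,
            hoff 1 2 (by norm_num) (by norm_num) (by norm_num) _ t2 f2, zero_add, add_zero]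
        · rw [nrm_fix h2 f2, hoff 2 0 (by norm_num) (by norm_num) (by norm_num) _ hu0.1 f0,
            hoff 2 1 (by norm_num) (by norm_num) (by norm_num) _ t1 f1, zero_add, zero_add]
      have binj : Function.Injective b := fun v v' h => by
        have := congrArg b' h
        rwa [show b' (b v) = v from DFunLike.congr_fun hbb' v,
          show b' (b v') = v' from DFunLike.congr_fun hbb' v'] at this
      obtain ⟨e0, e1, e2⟩ := hN q
      rw [e'] at e0 e1 e2
      obtain ⟨d0, d1, d2⟩ := hN q'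
      exact Prod.ext (Subtype.ext (e0.symm.trans d0))
        (Prod.ext (Subtype.ext (binj (e1.symm.trans d1))) (Subtype.ext (binj (binj (e2.symm.trans d2)))))
    · have hw := (hU _).1 w.2
      have hbw : ∀ v, b (b' v) = v := fun v => DFunLike.congr_fun hbb v
      refine ⟨(⟨N 0 w, hmemT _ (hNp 0) _ hw, ?_⟩, ⟨b' (N 1 w), hmemT _ hb'p _ (hmemT _ (hNp 1) _ hw), ?_⟩,
        ⟨b' (b' (N 2 w)), hmemT _ hb'p _ (hmemT _ hb'p _ (hmemT _ (hNp 2) _ hw)), ?_⟩), Subtype.ext ?_⟩
      · have := hNfix 0 w; rwa [hC.1] at this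
      · have h := hNfix 1 w
        rw [hC.2.1] at h
        calc a (b' (N 1 w)) = (b' * (a * p)) (N 1 w) := DFunLike.congr_fun hab' _
          _ = b' (N 1 w) := by show b' ((a * p) (N 1 w)) = _; rw [h]
      · have h := hNfix 2 w
        rw [hC.2.2] at h
        calc a (b' (b' (N 2 w))) = (b' * b' * (a * p * p)) (N 2 w) := DFunLike.congr_fun hab'2 _
          _ = b' (b' (N 2 w)) := by show b' (b' ((a * p * p) (N 2 w))) = _; rw [h]
      · show N 0 w + b (b' (N 1 w)) + b (b (b' (b' (N 2 w)))) = w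
        rw [hbw, hbw, hbw, hsum _ hw]
  have hU0p : ∀ w ∈ U0, p w ∈ U0 := fun w hw => ⟨hmemT p rfl _ hw.1, by
    rw [show a (p w) = p (a w) from DFunLike.congr_fun hap w, hw.2]⟩
  have hU0f : ∀ w ∈ U0, p w = w → w = 0 := fun w hw h => by
    have := hw.1
    rwa [hT, nrm_fix h2 h] at this
  have hm3 := card_mod_fpf hp3 U0 hU0p hU0f
  obtain ⟨k, hk⟩ := card_sub_pow h2 U0
  have hle : Nat.card ↥U ≤ 4096 := hcard ▸ Nat.card_le_card_of_injective (Subtype.val : ↥U → W) Subtype.val_injective
  rw [hk, ← pow_add, ← pow_add] at hcardU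
  rw [hk] at hm3
  have hk4 : k ≤ 4 := by
    by_contra h
    have := Nat.pow_le_pow_right (show 0 < 2 by norm_num) (show 15 ≤ k + (k + k) by omega)
    rw [← hcardU] at this
    omega
  have hne0 : Nat.card ↥U ≠ 1 := fun e => by
    have := (AddSubgroup.eq_bot_iff_forall U).1 (AddSubgroup.card_eq_one.1 e) u ((hU _).2 hu0)
    rw [this, map_zero] at hux
    exact hux rfl
  interval_cases k
  · exact absurd (hcardU.trans (by norm_num)) hne0
  · simp [Nat.ModEq] at hm3
  · exfalso
    have hxU : ∀ w ∈ U, x w ∈ U := fun w hw => (hU _).2 (hmemT x hxp _ ((hU _).1 hw))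
    have h11 := card_mod_inv hx U hxU
    rw [hcardU] at h11
    let F : AddSubgroup W :=
      { carrier := {w | w ∈ U ∧ x w = w}
        add_mem' := fun {v w} hv hw => ⟨U.add_mem hv.1 hw.1, by rw [map_add, hv.2, hw.2]⟩
        zero_mem' := ⟨U.zero_mem, map_zero _⟩
        neg_mem' := fun {v} hv => ⟨U.neg_mem hv.1, by rw [map_neg, hv.2]⟩ }
    have hFc : Nat.card {w : ↥U // x (w : W) = w} = Nat.card ↥F :=
      Nat.card_congr ⟨fun w => ⟨w.1, w.1.2, w.2⟩, fun w => ⟨⟨w, w.2.1⟩, w.2.2⟩, fun _ => rfl, fun _ => rfl⟩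
    obtain ⟨m, hm⟩ := card_sub_pow h2 F
    have hFU : F < U := lt_of_le_of_ne (fun w hw => hw.1) fun e => hux (e.ge ((hU _).2 hu0)).2
    have hlt : Nat.card ↥F < Nat.card ↥U := by
      refine lt_of_le_of_ne (AddSubgroup.card_le_of_le hFU.le) fun e => hFU.ne ?_
      exact AddSubgroup.eq_of_le_of_card_ge hFU.le e.ge
    rw [hm, hcardU] at hlt
    have hm6 : m < 6 := (Nat.pow_lt_pow_iff_right (by norm_num)).1 hlt
    rw [hFc, hm] at h11
    interval_cases m <;> simp [Nat.ModEq] at h11
  · simp [Nat.ModEq] at hm3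
  · intro w hw
    have hall : U = ⊤ := AddSubgroup.eq_top_of_card_eq U (by rw [hcardU, hcard]; norm_num)
    have := (hU w).1 (hall ▸ AddSubgroup.mem_top w)
    rwa [hT, nrm_fix h2 hw] at this
where
  pow_mod_orderOf_aux {p : 𝐄} (hp3 : p ^ 3 = 1) (n : ℕ) : p ^ (n % 3) = p ^ n := by
    conv_rhs => rw [← Nat.mod_add_div n 3, pow_add, pow_mul, hp3, one_pow, mul_one]

theorem sq_add (h2 : ∀ w : W, w + w = 0) {f g : 𝐄} (h : Commute f g) :
    ∀ k : ℕ, (f + g) ^ (2 ^ k) = f ^ (2 ^ k) + g ^ (2 ^ k)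
  | 0 => by simp
  | k + 1 => by
    have : ∀ e : 𝐄, e + e = 0 := fun e => AddMonoidHom.ext fun w => h2 (e w)
    rw [pow_succ 2, pow_mul, pow_mul, pow_mul, sq_add h2 h k, ((h.pow_pow _ _)).add_sq, two_mul, add_mul, this,
      add_zero]

/-- No element commuting with `p` inverts an element of order eleven. -/
theorem no_inverter (h2 : ∀ w : W, w + w = 0) (hcard : Nat.card W = 4096) {p x y y' : 𝐄}
    (hp : p * p * p = 1) (hfix : ∀ w : W, p w = w → w = 0) (hx : x ^ 11 = 1) (hx1 : x ≠ 1) (hxp : x * p = p * x)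
    (hyy : y * y' = 1) (hy'y : y' * y = 1) (hyp : y * p = p * y) (hyx : y * x * y' = x ^ 10) : False := by
  haveI := Fact.mk Nat.prime_three
  haveI : Fact (Nat.Prime 11) := ⟨by norm_num⟩
  haveI := Fact.mk Nat.prime_two
  have hp3 : p ^ 3 = 1 := by rw [pow_three, ← mul_assoc, hp]
  set N : 𝐄 := ∑ i ∈ Finset.range 11, x ^ i with hN
  have hxN : x * N = N := by
    have e1 := Finset.sum_range_succ' (fun i => x ^ i) 11
    rw [Finset.sum_range_succ, hx, pow_zero] at e1
    have e2 : N = ∑ i ∈ Finset.range 11, x ^ (i + 1) := add_right_cancel e1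
    rw [Finset.mul_sum]
    refine (Finset.sum_congr rfl fun i _ => ?_).trans e2.symm
    rw [pow_succ']
  have hNfix : ∀ w, x w = w → N w = w := fun w hw => by
    have hpow : ∀ i : ℕ, (x ^ i) w = w := fun i => by
      induction i with
      | zero => rfl
      | succ i ih => rw [pow_succ]; show (x ^ i) (x w) = w; rw [hw, ih]
    rw [hN, show (∑ i ∈ Finset.range 11, x ^ i) w = ∑ i ∈ Finset.range 11, (x ^ i) w from
      AddMonoidHom.finsetSum_apply _ _ w, Finset.sum_congr rfl fun i _ => hpow i, Finset.sum_const,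
      Finset.card_range, show (11 : ℕ) = 2 * 5 + 1 from rfl, add_nsmul, mul_nsmul, two_nsmul, h2]
    simp
  let U : AddSubgroup W := AddMonoidHom.ker (N : W →+ W)
  have hU : ∀ w : W, w ∈ U ↔ N w = 0 := fun w => AddMonoidHom.mem_ker
  let C : AddSubgroup W :=
    { carrier := {w | x w = w}
      add_mem' := fun {v w} hv hw => by
        show x (v + w) = v + w
        rw [map_add, hv, hw]
      zero_mem' := map_zero _
      neg_mem' := fun {v} hv => by
        show x (-v) = -v
        rw [map_neg, hv] }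
  have hsplit : Nat.card W = Nat.card ↥C * Nat.card ↥U := by
    rw [← Nat.card_prod]
    refine (Nat.card_eq_of_bijective (fun q : ↥C × ↥U => (q.1 : W) + q.2) ⟨fun q q' e => ?_, fun w => ?_⟩).symm
    · have e' : (q.1 : W) + q.2 = (q'.1 : W) + q'.2 := e
      have h := congrArg N e'
      rw [map_add, map_add, hNfix _ q.1.2, hNfix _ q'.1.2, (hU _).1 q.2.2, (hU _).1 q'.2.2, add_zero, add_zero] at h
      rw [h] at e'
      exact Prod.ext (Subtype.ext h) (Subtype.ext (add_left_cancel e'))
    · have hNN : x (N w) = N w := DFunLike.congr_fun hxN w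
      refine ⟨(⟨N w, hNN⟩, ⟨w + N w, (hU _).2 ?_⟩), ?_⟩
      · rw [map_add, hNfix _ hNN, h2]
      · show N w + (w + N w) = w
        rw [add_comm, add_assoc, h2, add_zero]
  obtain ⟨m, hm⟩ := card_sub_pow h2 C
  have hCm : Nat.card ↥C ≡ 1 [MOD 3] := card_mod_fpf hp3 C (fun w hw => by
    show x (p w) = p w
    rw [show x (p w) = p (x w) from DFunLike.congr_fun hxp w, show x w = w from hw]) fun w _ h => hfix w h
  have h11 : 4096 ≡ Nat.card ↥C [MOD 11] := by
    have h := card_mod_inv hx (⊤ : AddSubgroup W) fun w _ => AddSubgroup.mem_top _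
    rw [AddSubgroup.card_top, hcard] at h
    rwa [Nat.card_congr (⟨fun w => ⟨w.1, w.2⟩, fun w => ⟨⟨w, trivial⟩, w.2⟩, fun _ => rfl, fun _ => rfl⟩ :
      {w : ↥(⊤ : AddSubgroup W) // x (w : W) = w} ≃ ↥C)] at h
  have hm12 : m ≤ 12 := by
    have := Nat.card_le_card_of_injective (Subtype.val : ↥C → W) Subtype.val_injective
    rw [hm, hcard] at this
    exact (Nat.pow_le_pow_iff_right (show 1 < 2 by norm_num)).1 (this.trans (by norm_num))
  have hm2 : m = 2 := by
    rw [hm] at hCm h11
    interval_cases m <;> simp [Nat.ModEq] at hCm h11 ⊢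
    refine absurd (AddMonoidHom.ext fun w => ?_) hx1
    have : w ∈ C := (AddSubgroup.eq_top_of_card_eq C (by rw [hm, hcard]; norm_num)) ▸ AddSubgroup.mem_top w
    exact this
  rw [hcard, hm, hm2] at hsplit
  have hUc : Nat.card ↥U = 1024 := by omega
  obtain ⟨u, hu, hu0⟩ : ∃ u ∈ U, u ≠ 0 := by
    by_contra h
    push Not at h
    rw [(AddSubgroup.eq_bot_iff_forall U).2 h, AddSubgroup.card_bot] at hUc
    omega
  let R : Subring 𝐄 := Subring.closure {x}
  have hRcomm : ∀ f ∈ R, ∀ g : 𝐄, Commute x g → Commute f g := fun f hf g hg => by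
    have : R ≤ Subring.centralizer {g} := Subring.closure_le.2 fun e he => by
      rw [Set.mem_singleton_iff] at he
      subst he
      exact Subring.mem_centralizer_iff.2 fun e he => by rw [Set.mem_singleton_iff.1 he]; exact hg.eq.symm
    exact (Subring.mem_centralizer_iff.1 (this hf) g rfl).symm
  have hRR : ∀ f ∈ R, ∀ g ∈ R, Commute f g := fun f hf g hg =>
    hRcomm f hf g (hRcomm g hg x (Commute.refl x)).symm
  let S : AddSubgroup W :=
    { carrier := {w | ∃ f ∈ R, f u = w}
      add_mem' := by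
        rintro _ _ ⟨f, hf, rfl⟩ ⟨g, hg, rfl⟩
        exact ⟨f + g, R.add_mem hf hg, rfl⟩
      zero_mem' := ⟨0, R.zero_mem, rfl⟩
      neg_mem' := by
        rintro _ ⟨f, hf, rfl⟩
        exact ⟨-f, R.neg_mem hf, rfl⟩ }
  have hSU : S ≤ U := by
    rintro _ ⟨f, hf, rfl⟩
    refine (hU _).2 (app_zero ((hU _).1 hu) ?_)
    exact ((hRcomm f hf N (Commute.sum_right _ _ _ fun i _ => Commute.self_pow x i))).eq.symm
  have hxmem : x ∈ R := Subring.subset_closure rfl
  have hS11 : Nat.card ↥S ≡ 1 [MOD 11] := by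
    refine card_mod_fpf hx S ?_ fun w hw h => ?_
    · rintro _ ⟨f, hf, rfl⟩
      exact ⟨x * f, R.mul_mem hxmem hf, rfl⟩
    · have h1 := hNfix w h
      rw [(hU w).1 (hSU hw)] at h1
      exact h1.symm
  obtain ⟨n, hn⟩ := card_sub_pow h2 S
  have hn10 : n ≤ 10 := by
    have := AddSubgroup.card_le_of_le hSU
    rw [hn, hUc] at this
    exact (Nat.pow_le_pow_iff_right (show 1 < 2 by norm_num)).1 (this.trans (by norm_num))
  have hSe : S = U := by
    refine AddSubgroup.eq_of_le_of_card_ge hSU ?_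
    rw [hn] at hS11
    interval_cases n <;> simp [Nat.ModEq] at hS11
    · exfalso
      exact hu0 ((AddSubgroup.eq_bot_iff_forall S).1 (AddSubgroup.card_eq_one.1 (by rw [hn, pow_zero])) u
        ⟨1, R.one_mem, rfl⟩)
    · rw [hn, hUc]; norm_num
  have hpU : p u ∈ S := by
    rw [hSe]
    exact (hU _).2 (app_zero ((hU _).1 hu) (Commute.sum_left _ _ _ fun i _ => (show Commute x p from hxp).pow_left i).eq)
  obtain ⟨f, hf, hfu⟩ := hpU
  have hfU : ∀ w ∈ U, f w = p w := fun w hw => by
    rw [← hSe] at hw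
    obtain ⟨g, hg, rfl⟩ := hw
    calc f (g u) = g (f u) := DFunLike.congr_fun (hRR f hf g hg).eq u
      _ = g (p u) := by rw [hfu]
      _ = p (g u) := DFunLike.congr_fun (hRcomm g hg p hxp).eq u
  have hfpow : ∀ (n : ℕ), ∀ w ∈ U, (f ^ n) w = (p ^ n) w := by
    intro n
    induction n with
    | zero => exact fun w _ => rfl
    | succ n ih =>
      intro w hw
      rw [pow_succ, pow_succ]
      show (f ^ n) (f w) = (p ^ n) (p w)
      rw [hfU w hw]
      exact ih _ ((hU _).2 (app_zero ((hU _).1 hw)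
        (Commute.sum_left _ _ _ fun i _ => (show Commute x p from hxp).pow_left i).eq))
  have hconj : ∀ g ∈ R, y * g * y' = g ^ (2 ^ 5) := by
    intro g hg
    induction hg using Subring.closure_induction with
    | mem e he =>
      rw [Set.mem_singleton_iff] at he
      subst he
      rw [hyx, show (2 : ℕ) ^ 5 = 11 * 2 + 10 from rfl, pow_add, pow_mul, hx, one_pow, one_mul]
    | zero => simp
    | one => rw [mul_one, hyy, one_pow]
    | add e e' he he' ih ih' => rw [mul_add, add_mul, ih, ih', sq_add h2 (hRR e he e' he')]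
    | neg e he ih =>
      have hneg : ∀ e : 𝐄, -e = e := fun e => AddMonoidHom.ext fun w => neg_eq_of_add_eq_zero_left (h2 (e w))
      rw [hneg]; exact ih
    | mul e e' he he' ih ih' =>
      calc y * (e * e') * y' = y * e * (y' * y) * e' * y' := by rw [hy'y]; noncomm_ring
        _ = (y * e * y') * (y * e' * y') := by noncomm_ring
        _ = _ := by rw [ih, ih', (hRR e he e' he').mul_pow]
  have hNy : N * y = y * N := by
    have hy'x : y * N * y' = N := by
      rw [hN, Finset.mul_sum, Finset.sum_mul]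
      have e1 : ∀ i : ℕ, y * x ^ i * y' = x ^ (10 * i) := by
        intro i
        induction i with
        | zero => simp [hyy]
        | succ i ih =>
          calc y * x ^ (i + 1) * y' = y * x ^ i * (y' * y) * x * y' := by rw [hy'y, pow_succ]; noncomm_ring
            _ = (y * x ^ i * y') * (y * x * y') := by noncomm_ring
            _ = _ := by rw [ih, hyx, ← pow_add]; rfl
      have hmod : ∀ n : ℕ, x ^ n = x ^ (n % 11) := fun n => by
        conv_lhs => rw [← Nat.mod_add_div n 11, pow_add, pow_mul, hx, one_pow, mul_one]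
      refine Finset.sum_bij (fun i _ => 10 * i % 11) (fun i _ => Finset.mem_range.2 (Nat.mod_lt _ (by norm_num)))
        (fun i hi j hj e => ?_) (fun j hj => ⟨10 * j % 11, Finset.mem_range.2 (Nat.mod_lt _ (by norm_num)), ?_⟩)
        fun i _ => by rw [e1, hmod]
      · rw [Finset.mem_range] at hi hj; omega
      · rw [Finset.mem_range] at hj; omega
    calc N * y = y * N * y' * y := by rw [hy'x]
      _ = _ := by rw [mul_assoc, hy'y, mul_one]
  have huy : y u ∈ U := (hU _).2 (app_zero ((hU _).1 hu) hNy)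
  have key : p (y u) = (p ^ 2) (y u) := by
    calc p (y u) = y (p u) := (DFunLike.congr_fun hyp u).symm
      _ = (y * f * y') (y u) := by
        show y (p u) = y (f (y' (y u)))
        rw [show y' (y u) = u from DFunLike.congr_fun hy'y u, hfu]
      _ = (f ^ (2 ^ 5)) (y u) := by rw [hconj f hf]
      _ = (p ^ (2 ^ 5)) (y u) := hfpow _ _ huy
      _ = _ := by rw [show (2 : ℕ) ^ 5 = 3 * 10 + 2 from rfl, pow_add, pow_mul, hp3, one_pow, one_mul]
  rw [pow_two] at key
  have h0 : p (y u) = 0 := hfix _ key.symm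
  have h1 : y u = 0 := by
    have : (p ^ 2) (p (y u)) = (p ^ 2) 0 := congrArg (fun v => (p ^ 2) v) h0
    rw [map_zero] at this
    rwa [show (p ^ 2) (p (y u)) = y u from DFunLike.congr_fun (show p ^ 2 * p = 1 by rw [← pow_succ, hp3]) _] at this
  refine hu0 ?_
  rw [← show y' (y u) = u from DFunLike.congr_fun hy'y u, h1, map_zero]

end CfsgLib.JFourConv
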