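import Cfsg.Agent.Lib.Golay.M24
import Cfsg.Agent.Lib.JFour.PairStab

/-!
# An automorphism of the group on 22 points inverting an element of order eleven
-/

set_option autoImplicit false
set_option maxRecDepth 100000
set_option linter.style.haveILetI false

open Cfsg

namespace CfsgLib.JFourConv

open CfsgLib.JFour CfsgLib.Golay

/-- Multiplication by two on the projective line. -/
def dbl : Equiv.Perm GolayPt := Equiv.optionCongr (Units.mulLeft (⟨2, 12, by decide, by decide⟩ : (ZMod 23)ˣ))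

theorem dbl_mem : dbl ∈ Cfsg.M24 :=
  mul_square_mem _ ⟨⟨5, 14, by decide, by decide⟩, Units.ext (by decide)⟩

theorem dbl_facts : (∀ p : GolayPt, (dbl ^ 11) p = p) ∧ dbl (pt 1) ≠ pt 1 ∧ dbl (pt 23) = pt 23 ∧ dbl (pt 0) = pt 0 ∧
    (∀ p : GolayPt, Cfsg.projInv (dbl (Cfsg.projInv (dbl p))) = p) ∧ Cfsg.projInv (pt 23) = pt 0 ∧
    Cfsg.projInv (pt 0) = pt 23 ∧ ∀ p : GolayPt, Cfsg.projInv (Cfsg.projInv p) = p := by
  decide +kernel

theorem exists_inverted_eleven :
    ∃ (a : ↥Cfsg.Spor.M22) (α : MulAut ↥Cfsg.Spor.M22), orderOf a = 11 ∧ α a = a⁻¹ := by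
  obtain ⟨h11, hne, h23, h0, hinv, s23, s0, hss⟩ := dbl_facts
  set s := Cfsg.projInv
  have hs : s ∈ Cfsg.M24 := projInv_mem
  have hs2 : s * s = 1 := Equiv.ext hss
  have hsi : s⁻¹ = s := inv_eq_of_mul_eq_one_right hs2
  let a : ↥Cfsg.Spor.M22 := ⟨dbl, JFour.mem_M22_iff.2 ⟨dbl_mem, h23, h0⟩⟩
  have hmem : ∀ x ∈ Cfsg.Spor.M22, s * x * s ∈ Cfsg.Spor.M22 := fun x hx => by
    obtain ⟨hxM, x1, x2⟩ := JFour.mem_M22_iff.1 hx
    refine JFour.mem_M22_iff.2 ⟨mul_mem (mul_mem hs hxM) hs, ?_, ?_⟩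
    · rw [Equiv.Perm.mul_apply, Equiv.Perm.mul_apply, s23, x2, s0]
    · rw [Equiv.Perm.mul_apply, Equiv.Perm.mul_apply, s0, x1, s23]
  let α : MulAut ↥Cfsg.Spor.M22 :=
    { toFun := fun x => ⟨s * x * s, hmem x x.2⟩
      invFun := fun x => ⟨s * x * s, hmem x x.2⟩
      left_inv := fun x => Subtype.ext (by
        show s * (s * (x : Equiv.Perm GolayPt) * s) * s = x
        rw [← mul_assoc, ← mul_assoc, hs2, one_mul, mul_assoc, hs2, mul_one])
      right_inv := fun x => Subtype.ext (by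
        show s * (s * (x : Equiv.Perm GolayPt) * s) * s = x
        rw [← mul_assoc, ← mul_assoc, hs2, one_mul, mul_assoc, hs2, mul_one])
      map_mul' := fun x y => Subtype.ext (by
        show s * ((x : Equiv.Perm GolayPt) * y) * s = s * x * s * (s * y * s)
        calc s * ((x : Equiv.Perm GolayPt) * y) * s = s * x * (s * s) * y * s := by rw [hs2]; group
          _ = _ := by group) }
  refine ⟨a, α, ?_, Subtype.ext ?_⟩
  · haveI : Fact (Nat.Prime 11) := ⟨by norm_num⟩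
    refine orderOf_eq_prime (Subtype.ext (Equiv.ext h11)) fun e => hne ?_
    have := congrArg Subtype.val e
    show (a : Equiv.Perm GolayPt) (pt 1) = pt 1
    rw [this]; rfl
  · show s * dbl * s = dbl⁻¹
    refine eq_inv_of_mul_eq_one_left (Equiv.ext hinv)

end CfsgLib.JFourConv
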