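import Cfsg.Prelude.Def_Transfer
import Cfsg.Agent.Lib.Fitting.Basic
import Cfsg.Agent.Lib.Golay.SylowTwoSimple
import Cfsg.Agent.Lib.JFourConv.FixedModule
import Cfsg.Agent.Lib.JFourConv.Inverted

/-!
# An involution centralizer with a threefold cover of the group on 22 points

The largest normal 2-subgroup, the quotient by the normal subgroup above it, and the element of order three.
-/

set_option autoImplicit false
set_option maxRecDepth 100000
set_option linter.style.haveILetI false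
set_option linter.unusedSectionVars false

open Cfsg
open scoped commutatorElement

namespace CfsgLib.JFourConv

/-- A nonabelian group of order twenty-seven over a central element of order three. -/
theorem exists_pair {S : Type*} [Group S] [Finite S] (hS : Nat.card S = 27) (hnc : ∃ x y : S, x * y ≠ y * x) {z : S}
    (hz : ∀ x, x * z = z * x) (hz3 : orderOf z = 3) : ∃ a b : S, a * a * a = 1 ∧ b * a = a * z * b := by
  haveI := Fact.mk Nat.prime_three
  have hzzz : z * z * z = 1 := by rw [← pow_three', ← hz3, pow_orderOf_eq_one]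
  set Z := Subgroup.center S with hZ
  have hzZ : z ∈ Z := Subgroup.mem_center_iff.2 hz
  have hncyc : ¬ IsCyclic (S ⧸ Z) := fun h => by
    obtain ⟨x, y, hxy⟩ := hnc
    exact hxy (commutative_of_cyclic_center_quotient (QuotientGroup.mk' Z) (QuotientGroup.ker_mk' Z).le x y)
  have hmul := Subgroup.card_eq_card_quotient_mul_card_subgroup Z
  rw [hS] at hmul
  have h3 : 3 ∣ Nat.card ↥Z := by
    rw [← hz3, ← Nat.card_zpowers]; exact Subgroup.card_dvd_of_le (Subgroup.zpowers_le.2 hzZ)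
  have hdvd : Nat.card ↥Z ∣ 3 ^ 3 := by rw [show (3 : ℕ) ^ 3 = 27 from rfl, ← hS]; exact Subgroup.card_subgroup_dvd_card Z
  obtain ⟨k, hk3, hk⟩ := (Nat.dvd_prime_pow Nat.prime_three).1 hdvd
  rw [hk] at hmul h3
  have hk1 : k = 1 := by
    interval_cases k
    · norm_num at h3
    · rfl
    · exact absurd (isCyclic_of_prime_card (p := 3) (by omega : Nat.card (S ⧸ Z) = 3)) hncyc
    · have h1 : Nat.card (S ⧸ Z) = 1 := by omega
      haveI := (Nat.card_eq_one_iff_unique.1 h1).1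
      exact absurd (isCyclic_of_subsingleton (α := S ⧸ Z)) hncyc
  rw [hk1, pow_one] at hk hmul
  have hZeq : Subgroup.zpowers z = Z :=
    Subgroup.eq_of_le_of_card_ge (Subgroup.zpowers_le.2 hzZ) (by rw [hk, Nat.card_zpowers, hz3])
  have hZmem : ∀ x ∈ Z, x = 1 ∨ x = z ∨ x = z * z := fun x hx => by
    rw [← hZeq] at hx
    obtain ⟨j, rfl⟩ := (isOfFinOrder_of_finite z).mem_powers_iff_mem_zpowers.2 hx
    show z ^ j = 1 ∨ z ^ j = z ∨ z ^ j = z * z
    rw [← pow_mod_orderOf, hz3]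
    have : j % 3 < 3 := Nat.mod_lt _ (by norm_num)
    interval_cases j % 3 <;> simp [pow_two]
  have hq : Nat.card (S ⧸ Z) = 3 ^ 2 := by omega
  have hqc := IsPGroup.commutative_of_card_eq_prime_sq hq
  have hcomm : ∀ x y : S, ∃ c ∈ Z, y * x = x * y * c := fun x y => by
    refine ⟨(x * y)⁻¹ * (y * x), ?_, (mul_inv_cancel_left _ _).symm⟩
    rw [← QuotientGroup.eq_one_iff, QuotientGroup.mk_mul, QuotientGroup.mk_inv, QuotientGroup.mk_mul,
      QuotientGroup.mk_mul, hqc (x : S ⧸ Z) y, inv_mul_cancel]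
  have hcube : ∀ x : S, x * x * x ∈ Z := fun x => by
    rw [← QuotientGroup.eq_one_iff, QuotientGroup.mk_mul, QuotientGroup.mk_mul, ← pow_three']
    have hd : orderOf (x : S ⧸ Z) ∣ 3 ^ 2 := by rw [← hq]; exact orderOf_dvd_natCard _
    obtain ⟨j, hj, hje⟩ := (Nat.dvd_prime_pow Nat.prime_three).1 hd
    interval_cases j
    · rw [pow_zero] at hje; rw [orderOf_eq_one_iff.1 hje, one_pow]
    · rw [pow_one] at hje; rw [← hje, pow_orderOf_eq_one]
    · exact absurd (isCyclic_of_orderOf_eq_card (x : S ⧸ Z) (by rw [hje, hq])) hncyc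
  have hc3 : ∀ c ∈ Z, c * c * c = 1 := fun c hc => by
    rcases hZmem c hc with rfl | rfl | rfl
    · simp
    · exact hzzz
    · calc z * z * (z * z) * (z * z) = z * z * z * (z * z * z) := by group
        _ = 1 := by rw [hzzz, one_mul]
  have hprod : ∀ x y : S, x * y * (x * y) * (x * y) = x * x * x * (y * y * y) := fun x y => by
    obtain ⟨c, hc, hyx⟩ := hcomm x y
    have hcc : ∀ w, c * w = w * c := fun w => (Subgroup.mem_center_iff.1 hc w).symm
    have h1 : ∀ w, y * (x * w) = x * (y * (c * w)) := fun w => by rw [← mul_assoc, hyx]; simp only [mul_assoc]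
    have h2 : ∀ w, c * (x * w) = x * (c * w) := fun w => by rw [← mul_assoc, hcc, mul_assoc]
    have h3 : ∀ w, c * (y * w) = y * (c * w) := fun w => by rw [← mul_assoc, hcc, mul_assoc]
    have h4 : c * x = x * c := hcc x
    have h5 : c * y = y * c := hcc y
    simp only [mul_assoc, h1, h2, h3, h4, h5]
    rw [← mul_assoc c c c, hc3 c hc, mul_one]
  obtain ⟨s1, s2, hs⟩ := hnc
  have hn1 : s2 * s1 * s1 ≠ s1 * (s2 * s1) := fun e => hs (by
    rw [← mul_assoc] at e; exact (mul_right_cancel e).symm)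
  have hn2 : s2 * s1⁻¹ * s1 ≠ s1 * (s2 * s1⁻¹) := fun e => hs (by
    rw [inv_mul_cancel_right] at e
    calc s1 * s2 = s1 * (s2 * s1⁻¹) * s1 := by group
      _ = s2 * s1 := by rw [← e])
  obtain ⟨a, w, haw, ha⟩ : ∃ a w : S, a * w ≠ w * a ∧ a * a * a = 1 := by
    have hi : s1⁻¹ * s1⁻¹ * s1⁻¹ = (s1 * s1 * s1)⁻¹ := by group
    rcases hZmem _ (hcube s1) with h1 | h1 | h1
    · exact ⟨s1, s2, hs, h1⟩
    all_goals rcases hZmem _ (hcube s2) with h2 | h2 | h2
    · exact ⟨s2, s1, hs.symm, h2⟩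
    · exact ⟨s2 * s1⁻¹, s1, hn2, by rw [hprod, hi, h1, h2, mul_inv_cancel]⟩
    · exact ⟨s2 * s1, s1, hn1, by rw [hprod, h1, h2, hzzz]⟩
    · exact ⟨s2, s1, hs.symm, h2⟩
    · exact ⟨s2 * s1, s1, hn1, by rw [hprod, h1, h2, ← mul_assoc, hzzz]⟩
    · exact ⟨s2 * s1⁻¹, s1, hn2, by rw [hprod, hi, h1, h2, mul_inv_cancel]⟩
  obtain ⟨c, hc, hwa⟩ := hcomm a w
  have hcc : ∀ v, c * v = v * c := fun v => (Subgroup.mem_center_iff.1 hc v).symm
  rcases hZmem c hc with rfl | rfl | rfl
  · exact absurd (by rw [hwa, mul_one]) haw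
  · exact ⟨a, w, ha, by rw [hwa, mul_assoc, ← hcc w, ← mul_assoc]⟩
  · refine ⟨a, w⁻¹, ha, ?_⟩
    calc w⁻¹ * a = w⁻¹ * (a * w * (z * z)) * (z * w⁻¹) := by
          rw [mul_assoc w⁻¹, show a * w * (z * z) * (z * w⁻¹) = a * (w * (z * z * z) * w⁻¹) by group, hzzz,
            mul_one, mul_inv_cancel, mul_one]
      _ = a * z * w⁻¹ := by rw [← hwa]; group

/-- A perfect group over a central element of order three with a Sylow subgroup of order twenty-seven. -/
theorem exists_pair_perfect {Γ : Type*} [Group Γ] [Finite Γ] (hperf : commutator Γ = ⊤) {p : Γ}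
    (hp : ∀ x, x * p = p * x) (hp3 : orderOf p = 3) (hcard : (Nat.card Γ).factorization 3 = 3) :
    ∃ a b : Γ, a * a * a = 1 ∧ b * a = a * p * b := by
  classical
  haveI := Fact.mk Nat.prime_three
  let S : Sylow 3 Γ := Classical.arbitrary _
  have hS : Nat.card ↥(S : Subgroup Γ) = 27 := by rw [S.card_eq_multiplicity, hcard]; norm_num
  haveI : (Subgroup.zpowers p).Normal := ⟨fun x hx g => by
    obtain ⟨i, rfl⟩ := Subgroup.mem_zpowers_iff.1 hx
    rw [← conj_zpow, hp g, mul_inv_cancel_right]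
    exact Subgroup.zpow_mem _ (Subgroup.mem_zpowers p) i⟩
  have hpS : p ∈ (S : Subgroup Γ) := by
    have hP : IsPGroup 3 ↥(Subgroup.zpowers p) := IsPGroup.of_card (n := 1) (by rw [Nat.card_zpowers, hp3, pow_one])
    exact hP.le_sylow_of_normal S (Subgroup.mem_zpowers p)
  have hnc : ∃ x y : ↥(S : Subgroup Γ), x * y ≠ y * x := by
    by_contra h
    push Not at h
    letI : CommGroup ↥(S : Subgroup Γ) := { (inferInstance : Group ↥(S : Subgroup Γ)) with mul_comm := h }
    set T := MonoidHom.transfer (MonoidHom.id ↥(S : Subgroup Γ)) with hT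
    have hker : T.ker = ⊤ := top_le_iff.1 (by rw [← hperf]; exact Abelianization.commutator_subset_ker T)
    have hkey : ∀ (k : ℕ) (g₀ : Γ), g₀⁻¹ * p ^ k * g₀ ∈ (S : Subgroup Γ) → g₀⁻¹ * p ^ k * g₀ = p ^ k :=
      fun k g₀ _ => by
        rw [mul_assoc, ← ((show Commute g₀ p from hp g₀).pow_right k).eq, inv_mul_cancel_left]
    have h1 : T p = ⟨p ^ (S : Subgroup Γ).index, _⟩ := MonoidHom.transfer_eq_pow (MonoidHom.id _) p hkey
    have h2 : T p = 1 := by rw [← MonoidHom.mem_ker, hker]; trivial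
    have h3 : p ^ (S : Subgroup Γ).index = 1 := congrArg Subtype.val (h1.symm.trans h2)
    refine S.not_dvd_index ?_
    have h4 := orderOf_dvd_of_pow_eq_one h3
    rwa [hp3] at h4
  obtain ⟨a, b, ha, hb⟩ := exists_pair hS hnc (z := (⟨p, hpS⟩ : ↥(S : Subgroup Γ)))
    (fun x => Subtype.ext (hp x)) (by rw [Subgroup.orderOf_mk, hp3])
  exact ⟨a, b, congrArg Subtype.val ha, congrArg Subtype.val hb⟩

/-- The endomorphisms given by automorphisms. -/
def autEnd (V : Type*) [CommGroup V] : MulAut V →* AddMonoid.End (Additive V) where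
  toFun f := MonoidHom.toAdditive f.toMonoidHom
  map_one' := rfl
  map_mul' _ _ := rfl

theorem autEnd_injective (V : Type*) [CommGroup V] : Function.Injective (autEnd V) := fun f g h =>
  MulEquiv.ext fun v => Additive.ofMul.injective (DFunLike.congr_fun h (Additive.ofMul v))

/-- The setting without the ambient group. -/
structure Data {H : Type*} [Group H] (Q N M : Subgroup H) : Prop where
  qn : Q ≤ N
  nm : N ≤ M
  idx : M.index = 2
  extra : IsExtraspecial 2 ↥Q
  cardQ : Nat.card ↥Q = 2 ^ 13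
  cardN : Nat.card ↥N = 3 * Nat.card ↥Q
  cent : ⁅M, N⁆ ≤ Q
  perf : M ≤ ⁅M, M⁆ ⊔ Q
  self : Subgroup.centralizer (Q : Set H) ≤ Q
  outer : ∀ c : H, (∀ m ∈ M, c * m * c⁻¹ * m⁻¹ ∈ N) → c ∈ M

namespace Data

variable {H : Type*} [Group H] [Finite H] {Q N M : Subgroup H} [Q.Normal] [N.Normal] [M.Normal] (T : Data Q N M)
  (e : ↥M ⧸ N.subgroupOf M ≃* ↥Cfsg.Spor.M22)
include T

/-- A subgroup normalized by `M` is inside `N` or supplements it. -/
theorem le_or_sup (e : ↥M ⧸ N.subgroupOf M ≃* ↥Cfsg.Spor.M22) {K : Subgroup H} (hK : K ≤ M)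
    (hn : ∀ k ∈ K, ∀ m ∈ M, m * k * m⁻¹ ∈ K) : K ≤ N ∨ ∀ m ∈ M, ∃ k ∈ K, ∃ n ∈ N, m = k * n := by
  haveI := JFour.M22Cert.small.simple
  let f : ↥M →* ↥Cfsg.Spor.M22 := e.toMonoidHom.comp (QuotientGroup.mk' (N.subgroupOf M))
  have hf : ∀ m : ↥M, f m = 1 ↔ (m : H) ∈ N := fun m => by
    show e (m : ↥M ⧸ N.subgroupOf M) = 1 ↔ _
    rw [EmbeddingLike.map_eq_one_iff, QuotientGroup.eq_one_iff, Subgroup.mem_subgroupOf]
  have hsurj : Function.Surjective f := e.surjective.comp (QuotientGroup.mk'_surjective _)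
  haveI : (K.subgroupOf M).Normal :=
    ⟨fun k hk m => Subgroup.mem_subgroupOf.2 (hn _ (Subgroup.mem_subgroupOf.1 hk) m m.2)⟩
  haveI := (inferInstance : (K.subgroupOf M).Normal).map f hsurj
  rcases (inferInstance : ((K.subgroupOf M).map f).Normal).eq_bot_or_eq_top with h | h
  · refine Or.inl fun k hk => (hf ⟨k, hK hk⟩).1 (Subgroup.mem_bot.1 (h ▸ ?_))
    exact Subgroup.mem_map_of_mem f (Subgroup.mem_subgroupOf.2 hk)
  · refine Or.inr fun m hm => ?_
    obtain ⟨k, hk, hkm⟩ := h.ge (Subgroup.mem_top (f ⟨m, hm⟩))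
    have h1 : f (k⁻¹ * ⟨m, hm⟩) = 1 := by rw [map_mul, map_inv, hkm, inv_mul_cancel]
    exact ⟨k, Subgroup.mem_subgroupOf.1 hk, _, (hf _).1 h1, (mul_inv_cancel_left (k : H) m).symm⟩

theorem card_M (e : ↥M ⧸ N.subgroupOf M ≃* ↥Cfsg.Spor.M22) : Nat.card ↥M = 443520 * Nat.card ↥N := by
  rw [Subgroup.card_eq_card_quotient_mul_card_subgroup (N.subgroupOf M), Nat.card_congr e.toEquiv,
    JFour.M22Cert.small.card, Nat.card_congr (Subgroup.subgroupOfEquivOfLe T.nm).toEquiv]

/-- The largest normal 2-subgroup. -/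
theorem core_eq (e : ↥M ⧸ N.subgroupOf M ≃* ↥Cfsg.Spor.M22) : pCore 2 H = Q := by
  haveI := Fact.mk Nat.prime_two
  haveI := Fitting.pCore_normal (G := H) 2
  set C := pCore 2 H
  have hQC : Q ≤ C := Fitting.le_pCore inferInstance T.extra.1.1
  have hC2 : IsPGroup 2 ↥C := Fitting.pCore_isPGroup 2
  have hCM : C ⊓ M ≤ N := by
    refine (T.le_or_sup e inf_le_right fun k hk m _ => ⟨Subgroup.Normal.conj_mem inferInstance k hk.1 m,
      Subgroup.Normal.conj_mem inferInstance k hk.2 m⟩).resolve_right fun h => ?_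
    let f : ↥(C ⊓ M) →* ↥Cfsg.Spor.M22 :=
      e.toMonoidHom.comp ((QuotientGroup.mk' (N.subgroupOf M)).comp (Subgroup.inclusion inf_le_right))
    have hsurj : Function.Surjective f := fun v => by
      obtain ⟨m, hm⟩ := e.surjective.comp (QuotientGroup.mk'_surjective _) v
      obtain ⟨k, hk, n, hn, hmk⟩ := h m m.2
      refine ⟨⟨k, hk⟩, ?_⟩
      rw [← hm]
      show e (((⟨k, hk.2⟩ : ↥M) : ↥M ⧸ N.subgroupOf M)) = e ((m : ↥M ⧸ N.subgroupOf M))
      refine congrArg e (QuotientGroup.eq.2 (Subgroup.mem_subgroupOf.2 ?_))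
      show k⁻¹ * (m : H) ∈ N
      rw [hmk, inv_mul_cancel_left]; exact hn
    have h22 : IsPGroup 2 ↥Cfsg.Spor.M22 := (hC2.to_le inf_le_left).of_surjective f hsurj
    obtain ⟨k, hk⟩ := IsPGroup.iff_card.1 h22
    rw [JFour.M22Cert.small.card] at hk
    have : 3 ∣ 2 ^ k := hk ▸ ⟨147840, by norm_num⟩
    exact absurd (Nat.le_of_dvd (by norm_num) (Nat.prime_three.dvd_of_dvd_pow this)) (by norm_num)
  have hCN : C ≤ N := fun c hc => by
    refine hCM ⟨hc, T.outer c fun m hm => hCM ⟨?_, ?_⟩⟩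
    · rw [show c * m * c⁻¹ * m⁻¹ = c * (m * c⁻¹ * m⁻¹) by group]
      exact C.mul_mem hc (Subgroup.Normal.conj_mem inferInstance _ (C.inv_mem hc) m)
    · exact M.mul_mem (Subgroup.Normal.conj_mem inferInstance _ hm c) (M.inv_mem hm)
  obtain ⟨k, hk⟩ := IsPGroup.iff_card.1 hC2
  have h1 : Nat.card ↥C ∣ 3 * 2 ^ 13 := T.cardQ ▸ T.cardN ▸ Subgroup.card_dvd_of_le hCN
  rw [hk] at h1
  have h2 : 2 ^ k ∣ 2 ^ 13 := ((Nat.Coprime.pow_left k (by norm_num : Nat.Coprime 2 3))).dvd_of_dvd_mul_left h1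
  exact (Subgroup.eq_of_le_of_card_ge hQC (by rw [hk, T.cardQ]; exact Nat.le_of_dvd (by norm_num) h2)).symm

/-- The action on the cover gives all automorphisms. -/
theorem exists_toAut : ∃ φ : H →* MulAut ↥Cfsg.Spor.M22, Function.Surjective φ ∧ φ.ker = N ∧
    ∀ (h : H) (m : ↥M), φ h (e (m : ↥M ⧸ N.subgroupOf M)) =
      e ((⟨h * m * h⁻¹, (inferInstance : M.Normal).conj_mem m m.2 h⟩ : ↥M) : ↥M ⧸ N.subgroupOf M) := by
  classical
  set N' := N.subgroupOf M
  have hmap : ∀ h : H, N'.map (MulAut.conjNormal h : MulAut ↥M).toMonoidHom = N' := fun h => by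
    ext m
    rw [Subgroup.mem_map_equiv, Subgroup.mem_subgroupOf, Subgroup.mem_subgroupOf]
    show ((MulAut.conjNormal h : MulAut ↥M).symm m : H) ∈ N ↔ _
    rw [MulAut.conjNormal_symm_apply]
    refine ⟨fun hm => ?_, fun hm => Subgroup.Normal.conj_mem' inferInstance _ hm h⟩
    have := Subgroup.Normal.conj_mem (inferInstance : N.Normal) _ hm h
    rwa [show h * (h⁻¹ * (m : H) * h) * h⁻¹ = m by group] at this
  let ψ : H →* MulAut (↥M ⧸ N') :=
    { toFun := fun h => QuotientGroup.congr N' N' (MulAut.conjNormal h) (hmap h)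
      map_one' := MulEquiv.ext fun q => by
        obtain ⟨m, rfl⟩ := QuotientGroup.mk'_surjective N' q
        exact congrArg (QuotientGroup.mk' N') (Subtype.ext (by simp))
      map_mul' := fun a b => MulEquiv.ext fun q => by
        obtain ⟨m, rfl⟩ := QuotientGroup.mk'_surjective N' q
        exact congrArg (QuotientGroup.mk' N') (Subtype.ext (by
          show ((MulAut.conjNormal (a * b) : MulAut ↥M) m : H) =
            ((MulAut.conjNormal a : MulAut ↥M) ((MulAut.conjNormal b : MulAut ↥M) m) : H)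
          simp [mul_assoc])) }
  let φ : H →* MulAut ↥Cfsg.Spor.M22 := (MulAut.congr e).toMonoidHom.comp ψ
  have happ : ∀ (h : H) (m : ↥M), φ h (e (m : ↥M ⧸ N')) =
      e ((⟨h * m * h⁻¹, (inferInstance : M.Normal).conj_mem m m.2 h⟩ : ↥M) : ↥M ⧸ N') := fun h m => by
    show e (ψ h (e.symm (e (m : ↥M ⧸ N')))) = _
    rw [MulEquiv.symm_apply_apply]
    exact congrArg e (congrArg (QuotientGroup.mk' N') (Subtype.ext (MulAut.conjNormal_apply h m)))
  have hker : φ.ker = N := by
    ext h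
    constructor
    · intro hh
      rw [MonoidHom.mem_ker] at hh
      have hcen : ∀ m : ↥M, (h * m * h⁻¹ * (m : H)⁻¹) ∈ N := fun m => by
        have h1 := happ h m
        rw [hh, MulAut.one_apply] at h1
        have h2 := Subgroup.mem_subgroupOf.1 (QuotientGroup.eq.1 (e.injective h1))
        have h3 := Subgroup.Normal.conj_mem (inferInstance : N.Normal) _ h2 (m : H)
        simpa [mul_assoc] using h3
      have hM' : h ∈ M := T.outer h fun m hm => hcen ⟨m, hm⟩
      have h1 : e ((⟨h, hM'⟩ : ↥M) : ↥M ⧸ N') = 1 := by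
        refine JFour.M22Cert.small.center_eq_one fun v => ?_
        obtain ⟨m, rfl⟩ := e.surjective.comp (QuotientGroup.mk'_surjective _) v
        have h2 := happ h m
        rw [hh, MulAut.one_apply, show (⟨h * m * h⁻¹, (inferInstance : M.Normal).conj_mem m m.2 h⟩ : ↥M) =
          ⟨h, hM'⟩ * m * ⟨h, hM'⟩⁻¹ from rfl, QuotientGroup.mk_mul, QuotientGroup.mk_mul, QuotientGroup.mk_inv,
          map_mul, map_mul, map_inv, eq_mul_inv_iff_mul_eq] at h2
        exact h2
      rw [EmbeddingLike.map_eq_one_iff, QuotientGroup.eq_one_iff, Subgroup.mem_subgroupOf] at h1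
      exact h1
    · intro hh
      rw [MonoidHom.mem_ker]
      refine MulEquiv.ext fun v => ?_
      obtain ⟨m, rfl⟩ := e.surjective.comp (QuotientGroup.mk'_surjective _) v
      rw [MulAut.one_apply]
      refine (happ h m).trans (congrArg e (QuotientGroup.eq.2 (Subgroup.mem_subgroupOf.2 ?_)))
      show (h * (m : H) * h⁻¹)⁻¹ * m ∈ N
      rw [show (h * (m : H) * h⁻¹)⁻¹ * m = h * ((m : H)⁻¹ * h⁻¹ * m) by group]
      exact N.mul_mem hh (Subgroup.Normal.conj_mem' inferInstance _ (N.inv_mem hh) (m : H))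
  refine ⟨φ, ?_, hker, happ⟩
  rw [← MonoidHom.range_eq_top]
  refine Subgroup.eq_top_of_card_eq _ ?_
  have hidx : (MulAut.conj : ↥Cfsg.Spor.M22 →* MulAut ↥Cfsg.Spor.M22).range.index = 2 := by
    rw [Subgroup.index_eq_card]; exact Cfsg.Agent.S2062.result
  have hconj : Function.Injective (MulAut.conj : ↥Cfsg.Spor.M22 →* MulAut ↥Cfsg.Spor.M22) := by
    rw [injective_iff_map_eq_one]
    intro m hm
    refine JFour.M22Cert.small.center_eq_one fun x => ?_
    have h' := DFunLike.congr_fun hm x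
    rw [MulAut.conj_apply, MulAut.one_apply, mul_inv_eq_iff_eq_mul] at h'
    exact h'.symm
  have hA : Nat.card (MulAut ↥Cfsg.Spor.M22) = 2 * 443520 := by
    rw [← (MulAut.conj : ↥Cfsg.Spor.M22 →* MulAut ↥Cfsg.Spor.M22).range.card_mul_index, hidx,
      ← Nat.card_congr (MonoidHom.ofInjective hconj).toEquiv, JFour.M22Cert.small.card, mul_comm]
  have h1 := φ.ker.card_mul_index
  rw [Subgroup.index_ker, hker, ← M.card_mul_index, T.idx, T.card_M e] at h1
  have hpos : 0 < Nat.card ↥N := Nat.card_pos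
  rw [hA]
  nlinarith [h1, hpos]

/-- The element of order three. -/
theorem exists_three (e : ↥M ⧸ N.subgroupOf M ≃* ↥Cfsg.Spor.M22) : ∃ π : H, π ∈ N ∧ orderOf π = 3 ∧
    (∀ q ∈ Q, q * π = π * q → ∀ h : H, h * q = q * h) ∧
    (∃ h : H, h * π * h⁻¹ ∈ Subgroup.zpowers π ∧ h * π ≠ π * h) ∧
    π ∈ ⁅Subgroup.centralizer ({π} : Set H), Subgroup.centralizer ({π} : Set H)⁆ := by
  classical
  haveI := Fact.mk Nat.prime_two
  haveI := Fact.mk Nat.prime_three
  haveI : Fact (Nat.Prime 11) := ⟨by norm_num⟩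
  obtain ⟨π, hπ⟩ := exists_prime_orderOf_dvd_card' (G := ↥N) 3 ⟨_, T.cardN⟩
  have hπo : orderOf (π : H) = 3 := by rw [Subgroup.orderOf_coe, hπ]
  have hπ3 : (π : H) ^ 3 = 1 := by rw [← hπo, pow_orderOf_eq_one]
  have hQ2 : ∀ q : H, q ∈ Q → q ^ 3 = 1 → q = 1 := fun q hq h3 => by
    obtain ⟨k, hk⟩ := T.extra.1.1 ⟨q, hq⟩
    have hco : Nat.Coprime 3 (2 ^ k) := Nat.Coprime.pow_right k (by norm_num)
    have h2 : q ^ 2 ^ k = 1 := by simpa using congrArg Subtype.val hk
    have := Nat.dvd_gcd (orderOf_dvd_of_pow_eq_one h3) (orderOf_dvd_of_pow_eq_one h2)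
    rw [hco.gcd_eq_one, Nat.dvd_one, orderOf_eq_one_iff] at this
    exact this
  have hπQ : (π : H) ∉ Q := fun h => by
    rw [hQ2 _ h hπ3, orderOf_one] at hπo; omega
  have hNQ : ∀ n ∈ N, ∃ q ∈ Q, ∃ i : ℕ, n = q * (π : H) ^ i := by
    have hinj : Function.Injective (fun p : ↥Q × Fin 3 =>
        (⟨(p.1 : H) * (π : H) ^ p.2.1, N.mul_mem (T.qn p.1.2) (N.pow_mem π.2 _)⟩ : ↥N)) := by
      rintro ⟨q, i⟩ ⟨q', j⟩ h
      have h' : (q : H) * (π : H) ^ i.1 = (q' : H) * (π : H) ^ j.1 := congrArg Subtype.val h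
      have hQm : (π : H) ^ i.1 * ((π : H) ^ j.1)⁻¹ ∈ Q := by
        have e : (π : H) ^ i.1 * ((π : H) ^ j.1)⁻¹ = (q : H)⁻¹ * q' := by
          rw [mul_inv_eq_iff_eq_mul, mul_assoc, ← h', inv_mul_cancel_left]
        rw [e]; exact Q.mul_mem (Q.inv_mem q.2) q'.2
      have hc : ((π : H) ^ i.1 * ((π : H) ^ j.1)⁻¹) ^ 3 = 1 := by
        rw [((Commute.refl (π : H)).pow_pow i.1 j.1).inv_right.mul_pow, inv_pow, ← pow_mul, ← pow_mul, mul_comm i.1,
          mul_comm j.1, pow_mul, pow_mul, hπ3, one_pow, one_pow, inv_one, mul_one]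
      have heq : (π : H) ^ i.1 = (π : H) ^ j.1 := mul_inv_eq_one.1 (hQ2 _ hQm hc)
      have hij : i = j := Fin.ext (pow_injOn_Iio_orderOf (by rw [hπo]; exact i.2) (by rw [hπo]; exact j.2) heq)
      subst hij
      rw [Subtype.ext (mul_right_cancel h')]
    have hbij := (Nat.bijective_iff_injective_and_card _).2 ⟨hinj, by
      rw [Nat.card_prod, Nat.card_fin, T.cardN, mul_comm]⟩
    intro n hn
    obtain ⟨p, hp⟩ := hbij.2 ⟨n, hn⟩
    exact ⟨p.1, p.1.2, p.2.1, (congrArg Subtype.val hp).symm⟩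
  -- the centre of the radical
  set Z := (Subgroup.center ↥Q).map Q.subtype with hZdef
  have hZc : ∀ c ∈ Z, (∀ h : H, h * c = c * h) ∧ c * c = 1 := by
    rintro _ ⟨c, hc, rfl⟩
    have h2 : ∀ d : ↥Q, d ∈ Subgroup.center ↥Q → d * d = 1 := fun d hd => by
      have := congrArg Subtype.val (pow_card_eq_one' (x := (⟨d, hd⟩ : ↥(Subgroup.center ↥Q))))
      rwa [T.extra.2, SubmonoidClass.coe_pow, pow_two, OneMemClass.coe_one] at this
    refine ⟨fun h => ?_, congrArg Subtype.val (h2 c hc)⟩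
    let d : ↥Q := ⟨h * (c : H) * h⁻¹, Subgroup.Normal.conj_mem inferInstance _ c.2 h⟩
    have hd : d ∈ Subgroup.center ↥Q := Subgroup.mem_center_iff.2 fun q => Subtype.ext (by
      have hq : h⁻¹ * (q : H) * h ∈ Q := Subgroup.Normal.conj_mem' inferInstance _ q.2 h
      have := congrArg Subtype.val (Subgroup.mem_center_iff.1 hc ⟨_, hq⟩)
      simp only [Subgroup.coe_mul] at this
      show (q : H) * (h * c * h⁻¹) = h * c * h⁻¹ * q
      calc (q : H) * (h * c * h⁻¹) = h * ((h⁻¹ * q * h) * c) * h⁻¹ := by group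
        _ = _ := by rw [this]; group)
    by_cases hc1 : c = 1
    · subst hc1; simp
    have hcd : d = c := by
      obtain ⟨a, b, -, hab⟩ := Nat.card_eq_two_iff.1 T.extra.2
      have hu : ∀ v : ↥(Subgroup.center ↥Q), v = 1 ∨ v = ⟨c, hc⟩ := fun v => by
        have h1 : (1 : ↥(Subgroup.center ↥Q)) ≠ ⟨c, hc⟩ := fun e => hc1 (congrArg Subtype.val e).symm
        have hv := hab.ge (Set.mem_univ v)
        have ho := hab.ge (Set.mem_univ (1 : ↥(Subgroup.center ↥Q)))
        have hcm := hab.ge (Set.mem_univ (⟨c, hc⟩ : ↥(Subgroup.center ↥Q)))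
        simp only [Set.mem_insert_iff, Set.mem_singleton_iff] at hv ho hcm
        rcases ho with rfl | rfl <;> rcases hcm with e | e
        · exact absurd e.symm h1
        · rw [e]; exact hv
        · rw [e]; exact hv.symm
        · exact absurd e.symm h1
      refine (hu ⟨d, hd⟩).elim (fun e => ?_) (fun e => congrArg Subtype.val e)
      exfalso
      have e1 : h * (c : H) * h⁻¹ = 1 := congrArg Subtype.val (congrArg Subtype.val e)
      exact hc1 (Subtype.ext (conj_eq_one_iff.1 e1))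
    exact mul_inv_eq_iff_eq_mul.1 (congrArg Subtype.val hcd)
  -- the module
  let V := ↥Q ⧸ Subgroup.center ↥Q
  have hVc : ∀ u v : V, u * v = v * u := by
    rintro ⟨u⟩ ⟨v⟩
    refine QuotientGroup.eq.2 ?_
    rw [show (u * v)⁻¹ * (v * u) = ⁅v⁻¹, u⁻¹⁆ by rw [commutatorElement_def]; group, ← T.extra.1.2.2]
    exact Subgroup.commutator_mem_commutator (Subgroup.mem_top _) (Subgroup.mem_top _)
  letI : CommGroup V := { (inferInstance : Group V) with mul_comm := hVc }
  have hchar : ∀ h : H, (Subgroup.center ↥Q).map (MulAut.conjNormal h : MulAut ↥Q).toMonoidHom =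
      Subgroup.center ↥Q := fun h =>
    Subgroup.characteristic_iff_map_eq.1 inferInstance _
  let ρ : H →* MulAut V :=
    { toFun := fun h => QuotientGroup.congr _ _ (MulAut.conjNormal h) (hchar h)
      map_one' := MulEquiv.ext fun q => by
        obtain ⟨m, rfl⟩ := QuotientGroup.mk'_surjective _ q
        exact congrArg (QuotientGroup.mk' _) (Subtype.ext (by simp))
      map_mul' := fun a b => MulEquiv.ext fun q => by
        obtain ⟨m, rfl⟩ := QuotientGroup.mk'_surjective _ q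
        exact congrArg (QuotientGroup.mk' _) (Subtype.ext (by
          show ((MulAut.conjNormal (a * b) : MulAut ↥Q) m : H) =
            ((MulAut.conjNormal a : MulAut ↥Q) ((MulAut.conjNormal b : MulAut ↥Q) m) : H)
          simp [mul_assoc])) }
  have hρapp : ∀ (h : H) (q : ↥Q), ρ h (q : V) =
      ((⟨h * q * h⁻¹, Subgroup.Normal.conj_mem inferInstance _ q.2 h⟩ : ↥Q) : V) := fun h q =>
    congrArg (QuotientGroup.mk' _) (Subtype.ext (MulAut.conjNormal_apply h q))
  have hρQ : ∀ q ∈ Q, ρ q = 1 := fun q hq => MulEquiv.ext fun v => by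
    obtain ⟨w, rfl⟩ := QuotientGroup.mk'_surjective _ v
    refine (hρapp q w).trans (QuotientGroup.eq.2 ?_)
    rw [show (⟨q * w * q⁻¹, Subgroup.Normal.conj_mem inferInstance _ w.2 q⟩ : ↥Q)⁻¹ * w =
      ⁅(⟨q, hq⟩ : ↥Q), w⁻¹⁆ from Subtype.ext (by simp [commutatorElement_def, mul_assoc]), ← T.extra.1.2.2]
    exact Subgroup.commutator_mem_commutator (Subgroup.mem_top _) (Subgroup.mem_top _)
  set P := ρ π with hPdef
  have hP1 : P ≠ 1 := fun hP => hπQ (T.self (Subgroup.mem_centralizer_iff.2 fun q hq => ?_))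
  swap
  · have h1 := hρapp π ⟨q, hq⟩
    rw [← hPdef, hP, MulAut.one_apply] at h1
    set c := ((π : H) * q * (π : H)⁻¹)⁻¹ * q with hc
    have hcm : c ∈ Z := ⟨_, QuotientGroup.eq.1 h1.symm, rfl⟩
    obtain ⟨hcc, hc2⟩ := hZc c hcm
    have hs : (π : H) * q * (π : H)⁻¹ = q * c := by
      have e : q = (π : H) * q * (π : H)⁻¹ * c := by rw [hc]; group
      calc (π : H) * q * (π : H)⁻¹ = (π : H) * q * (π : H)⁻¹ * (c * c) := by rw [hc2, mul_one]
        _ = (π : H) * q * (π : H)⁻¹ * c * c := (mul_assoc _ _ _).symm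
        _ = _ := by rw [← e]
    have hit : ∀ x : H, (π : H) * (x * c) * (π : H)⁻¹ = (π : H) * x * (π : H)⁻¹ * c := fun x => by
      rw [show (π : H) * (x * c) * (π : H)⁻¹ = (π : H) * x * (c * (π : H)⁻¹) by group, ← hcc]; group
    have h3 : q = q * (c * c * c) := by
      calc q = (π : H) ^ 3 * q * ((π : H) ^ 3)⁻¹ := by rw [hπ3]; group
        _ = (π : H) * ((π : H) * ((π : H) * q * (π : H)⁻¹) * (π : H)⁻¹) * (π : H)⁻¹ := by
          rw [pow_three]; group
        _ = _ := by rw [hs, hit, hs, hit, hit, hs]; group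
    rw [hc2, one_mul] at h3
    rw [← h3] at hs
    exact (mul_inv_eq_iff_eq_mul.1 hs).symm
  have hPP : P * P * P = 1 := by
    rw [hPdef, ← map_mul, ← map_mul, ← pow_three', hπ3, map_one]
  have hP3 : orderOf P = 3 := orderOf_eq_prime (by rw [pow_three', hPP]) hP1
  have hρN : ∀ n ∈ N, ∃ i : ℕ, ρ n = P ^ i := fun n hn => by
    obtain ⟨q, hq, i, rfl⟩ := hNQ n hn
    exact ⟨i, by rw [map_mul, hρQ q hq, one_mul, map_pow]⟩
  have hMP : ∀ m ∈ M, ρ m * P = P * ρ m := fun m hm => by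
    have h := hρQ _ (T.cent (Subgroup.commutator_mem_commutator hm π.2))
    rwa [commutatorElement_def, map_mul, map_mul, map_mul, map_inv, map_inv, ← hPdef, mul_inv_eq_one,
      mul_inv_eq_iff_eq_mul] at h
  -- the kernel in `M`
  have hK : ∀ m ∈ M, ρ m = 1 → m ∈ Q := by
    intro m hm hm1
    rcases T.le_or_sup e (K := M ⊓ ρ.ker) inf_le_left (fun k hk m hm => ⟨Subgroup.Normal.conj_mem inferInstance k hk.1 m,
      (inferInstance : ρ.ker.Normal).conj_mem k hk.2 m⟩) with h | h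
    · obtain ⟨q, hq, i, rfl⟩ := hNQ m (h ⟨hm, hm1⟩)
      rw [map_mul, hρQ q hq, one_mul, map_pow, ← hPdef, ← orderOf_dvd_iff_pow_eq_one, hP3] at hm1
      obtain ⟨j, rfl⟩ := hm1
      rw [pow_mul, hπ3, one_pow, mul_one]
      exact hq
    · exfalso
      have hab : ∀ x ∈ M, ∃ i : ℕ, ρ x = P ^ i := fun x hx => by
        obtain ⟨k, hk, n, hn, rfl⟩ := h x hx
        obtain ⟨i, hi⟩ := hρN n hn
        exact ⟨i, by rw [map_mul, show ρ k = 1 from hk.2, one_mul, hi]⟩
      have hle : ⁅M, M⁆ ⊔ Q ≤ ρ.ker := sup_le (Subgroup.commutator_le.2 fun a ha b hb => by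
        obtain ⟨i, hi⟩ := hab a ha
        obtain ⟨j, hj⟩ := hab b hb
        rw [MonoidHom.mem_ker, map_commutatorElement, hi, hj, commutatorElement_eq_one_iff_mul_comm]
        exact ((Commute.refl P).pow_pow i j).eq) fun q hq => hρQ q hq
      exact hP1 (hle (T.perf (T.nm π.2)))
  -- the cover
  let Γ : Subgroup (MulAut V) := M.map ρ
  have hΓperf : commutator ↥Γ = ⊤ := by
    refine Subgroup.map_injective Γ.subtype_injective ?_
    rw [commutator_def, Subgroup.map_commutator, ← MonoidHom.range_eq_map, Subgroup.range_subtype]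
    refine le_antisymm (Subgroup.commutator_le.2 fun a ha b hb => ?_) ?_
    · exact Γ.mul_mem (Γ.mul_mem (Γ.mul_mem ha hb) (Γ.inv_mem ha)) (Γ.inv_mem hb)
    · rintro _ ⟨m, hm, rfl⟩
      obtain ⟨c, hc, q, hq, rfl⟩ := Subgroup.mem_sup_of_normal_right.1 (T.perf hm)
      rw [map_mul, hρQ q hq, mul_one, ← Subgroup.map_commutator]
      exact Subgroup.mem_map_of_mem ρ hc
  have hΓcard : Nat.card ↥Γ = 3 * 443520 := by
    have h1 := (ρ.domRestrict M).ker.card_mul_index
    rw [Subgroup.index_ker] at h1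
    have hker : (ρ.domRestrict M).ker = Q.subgroupOf M := by
      ext m
      rw [MonoidHom.mem_ker, Subgroup.mem_subgroupOf]
      exact ⟨fun h => hK m m.2 h, fun h => hρQ _ h⟩
    have hrange : (ρ.domRestrict M).range = Γ := by
      ext v
      simp [Γ, MonoidHom.mem_range, Subgroup.mem_map]
    rw [hker, hrange, Nat.card_congr (Subgroup.subgroupOfEquivOfLe (T.qn.trans T.nm)).toEquiv, T.card_M e, T.cardN,
      T.cardQ] at h1
    omega
  obtain ⟨a, b, ha, hb⟩ := exists_pair_perfect hΓperf (p := (⟨P, _, T.nm π.2, rfl⟩ : ↥Γ))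
    (fun x => Subtype.ext (by
      obtain ⟨m, hm, hmx⟩ := x.2
      show (x : MulAut V) * P = P * x
      rw [← hmx]
      exact hMP m hm))
    ((orderOf_injective Γ.subtype Γ.subtype_injective _).symm.trans hP3) (by
      rw [hΓcard, show 3 * 443520 = 3 ^ 3 * 49280 by norm_num, Nat.factorization_mul (by norm_num) (by norm_num),
        Finsupp.add_apply, Nat.factorization_pow]
      simp [Nat.prime_three.factorization_self, Nat.factorization_eq_zero_of_not_dvd (show ¬ 3 ∣ 49280 by norm_num)])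
  -- the element of order eleven
  obtain ⟨v, α, hv, hαv⟩ := exists_inverted_eleven
  obtain ⟨φ, hφs, -, hφ⟩ := T.exists_toAut e
  obtain ⟨h0, hh0⟩ := hφs α
  obtain ⟨m, hmv⟩ := e.surjective.comp (QuotientGroup.mk'_surjective (N.subgroupOf M)) v
  have hmv' : e (m : ↥M ⧸ N.subgroupOf M) = v := hmv
  set x := (ρ (m : H)) ^ 3 with hxdef
  have hm11 : ((m : H)) ^ 11 ∈ N := by
    have h1 : e ((m ^ 11 : ↥M) : ↥M ⧸ N.subgroupOf M) = 1 := by
      rw [QuotientGroup.mk_pow, map_pow, hmv', ← hv, pow_orderOf_eq_one]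
    rwa [EmbeddingLike.map_eq_one_iff, QuotientGroup.eq_one_iff, Subgroup.mem_subgroupOf] at h1
  have hx11 : x ^ 11 = 1 := by
    obtain ⟨i, hi⟩ := hρN _ hm11
    rw [hxdef, ← pow_mul, mul_comm, pow_mul, ← map_pow, hi, ← pow_mul, mul_comm, pow_mul, pow_three', hPP, one_pow]
  have hxN : (m : H) ^ 3 ∉ N := fun h => by
    have h1 : e ((m ^ 3 : ↥M) : ↥M ⧸ N.subgroupOf M) = 1 := by
      rw [EmbeddingLike.map_eq_one_iff, QuotientGroup.eq_one_iff, Subgroup.mem_subgroupOf]; exact h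
    rw [QuotientGroup.mk_pow, map_pow, hmv', ← orderOf_dvd_iff_pow_eq_one, hv] at h1
    norm_num at h1
  have hx1 : x ≠ 1 := fun h => hxN (T.qn (hK _ (M.pow_mem m.2 3) (by rw [map_pow]; exact h)))
  have hinv : ∃ i : ℕ, ρ h0 * ρ m * (ρ h0)⁻¹ = P ^ i * (ρ m)⁻¹ := by
    have h1 := hφ h0 m
    rw [hh0, hmv', hαv, ← hmv', ← map_inv, ← QuotientGroup.mk_inv] at h1
    have h2 := Subgroup.mem_subgroupOf.1 (QuotientGroup.eq.1 (e.injective h1))
    simp only [Subgroup.coe_mul, InvMemClass.coe_inv, inv_inv] at h2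
    have h3 := Subgroup.Normal.conj_mem' (inferInstance : N.Normal) _ h2 (m : H)
    rw [show (m : H)⁻¹ * ((m : H) * (h0 * (m : H) * h0⁻¹)) * m = h0 * (m : H) * h0⁻¹ * m by group] at h3
    obtain ⟨i, hi⟩ := hρN _ h3
    refine ⟨i, ?_⟩
    rw [map_mul, map_mul, map_mul, map_inv] at hi
    rw [eq_mul_inv_iff_mul_eq, hi]
  -- the module has no fixed vectors
  have h2V : ∀ w : Additive V, w + w = 0 := by
    intro w
    obtain ⟨q, hq⟩ := QuotientGroup.mk'_surjective (Subgroup.center ↥Q) (Additive.toMul w)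
    refine Additive.toMul.injective ?_
    show Additive.toMul w * Additive.toMul w = 1
    rw [← hq, ← map_mul, QuotientGroup.mk'_apply, QuotientGroup.eq_one_iff]
    have h1 : q * q ∈ frattini ↥Q := Golay.SylowTwo.sq_mem_frattini T.extra.1.1 q
    rw [T.extra.1.2.1] at h1
    exact h1
  have hVcard : Nat.card (Additive V) = 4096 := by
    have h := Subgroup.card_eq_card_quotient_mul_card_subgroup (Subgroup.center ↥Q)
    rw [T.cardQ, T.extra.2] at h
    show Nat.card V = 4096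
    have h' : Nat.card V * 2 = 2 ^ 13 := h.symm
    omega
  let j := autEnd V
  have jmul : ∀ f g : MulAut V, j f * j g = j (f * g) := fun f g => (map_mul j f g).symm
  have hfix : ∀ w : Additive V, j P w = w → w = 0 := by
    refine fixed_trivial (p := j P) (a := j (a : MulAut V)) (b := j (b : MulAut V)) (b' := j (b : MulAut V)⁻¹)
      (x := j x) h2V hVcard ?_ ?_ ?_ ?_ ?_ ?_ ?_ ?_ ?_ ?_
    · rw [jmul, jmul, hPP, map_one]
    · rw [jmul, jmul]; exact (congrArg j (congrArg Subtype.val ha)).trans (map_one j)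
    · rw [jmul, mul_inv_cancel, map_one]
    · rw [jmul, inv_mul_cancel, map_one]
    · rw [jmul, jmul]
      obtain ⟨c, hc, hca⟩ := a.2
      rw [← hca, hMP c hc]
    · rw [jmul, jmul]
      obtain ⟨c, hc, hcb⟩ := b.2
      rw [← hcb, hMP c hc]
    · rw [jmul, jmul, jmul]; exact congrArg j (congrArg Subtype.val hb)
    · rw [← map_pow, hx11, map_one]
    · rw [jmul, jmul]
      exact congrArg j ((show Commute (ρ (m : H)) P from hMP _ m.2).pow_left 3).eq
    · by_contra hU
      push Not at hU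
      let L : Subgroup H :=
        { carrier := {l | l ∈ M ∧ ∀ u, (1 + j P + j P * j P) u = 0 → j (ρ l) u = u}
          one_mem' := ⟨M.one_mem, fun u _ => by rw [map_one, map_one]; rfl⟩
          mul_mem' := fun {k l} hk hl => ⟨M.mul_mem hk.1 hl.1, fun u hu => by
            rw [map_mul, map_mul]
            show j (ρ k) (j (ρ l) u) = u
            rw [hl.2 u hu, hk.2 u hu]⟩
          inv_mem' := fun {k} hk => ⟨M.inv_mem hk.1, fun u hu => by
            have := congrArg (j (ρ k⁻¹)) (hk.2 u hu)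
            rw [show j (ρ k⁻¹) (j (ρ k) u) = (j (ρ k⁻¹) * j (ρ k)) u from rfl, jmul, ← map_mul, inv_mul_cancel,
              map_one, map_one] at this
            exact this.symm⟩ }
      have hLn : ∀ k ∈ L, ∀ n ∈ M, n * k * n⁻¹ ∈ L := fun k hk n hn =>
        ⟨Subgroup.Normal.conj_mem inferInstance k hk.1 n, fun u hu => by
          rw [map_mul, map_mul, map_mul, map_mul]
          show j (ρ n) (j (ρ k) (j (ρ n⁻¹) u)) = u
          have hc : (1 + j P + j P * j P) * j (ρ n⁻¹) = j (ρ n⁻¹) * (1 + j P + j P * j P) := by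
            have hcm : Commute (j P) (j (ρ n⁻¹)) :=
              (show Commute (ρ n⁻¹) P from hMP _ (M.inv_mem hn)).symm.map j
            exact (((Commute.one_left _).add_left hcm).add_left (hcm.mul_left hcm)).eq
          rw [hk.2 _ (app_zero hu hc), show j (ρ n) (j (ρ n⁻¹) u) = (j (ρ n) * j (ρ n⁻¹)) u from rfl, jmul,
            ← map_mul, mul_inv_cancel, map_one, map_one]
          rfl⟩
      have hm3 : (m : H) ^ 3 ∈ L := ⟨M.pow_mem m.2 3, fun u hu => by rw [map_pow]; exact hU u hu⟩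
      rcases T.le_or_sup e (K := L) (fun k hk => hk.1) hLn with h | h
      · exact hxN (h hm3)
      · have hle : ⁅M, M⁆ ⊔ Q ≤ (L.map ρ).comap ρ := by
          refine sup_le (Subgroup.commutator_le.2 fun k hk l hl => ?_) fun q hq => ?_
          · obtain ⟨k1, hk1, n1, hn1, rfl⟩ := h k hk
            obtain ⟨l1, hl1, n2, hn2, rfl⟩ := h l hl
            obtain ⟨i, hi⟩ := hρN n1 hn1
            obtain ⟨j', hj⟩ := hρN n2 hn2
            show ρ ⁅k1 * n1, l1 * n2⁆ ∈ L.map ρ
            have ck : ∀ k ∈ M, ∀ i : ℕ, Commute (ρ k) (P ^ i) := fun k hk i =>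
              (show Commute (ρ k) P from hMP k hk).pow_right i
            have e1 : ρ ⁅k1 * n1, l1 * n2⁆ = ρ ⁅k1, l1⁆ := by
              rw [map_commutatorElement, map_mul, map_mul, hi, hj, map_commutatorElement, commutatorElement_def,
                commutatorElement_def]
              have c1 := ck k1 hk1.1 i
              have c2 := ck k1 hk1.1 j'
              have c3 := ck l1 hl1.1 i
              have c4 := ck l1 hl1.1 j'
              have c5 : Commute (P ^ i) (P ^ j') := (Commute.refl P).pow_pow i j'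
              calc ρ k1 * P ^ i * (ρ l1 * P ^ j') * (ρ k1 * P ^ i)⁻¹ * (ρ l1 * P ^ j')⁻¹
                  = ρ k1 * ρ l1 * (P ^ i * P ^ j') * (ρ k1 * P ^ i)⁻¹ * (ρ l1 * P ^ j')⁻¹ := by
                    rw [mul_assoc (ρ k1), ← mul_assoc (P ^ i), ← c3.eq]; group
                _ = ρ k1 * ρ l1 * (P ^ j' * (ρ k1)⁻¹) * (ρ l1 * P ^ j')⁻¹ := by
                    rw [c5.eq, mul_inv_rev (ρ k1)]; group
                _ = _ := by rw [← c2.inv_left.eq, mul_inv_rev (ρ l1)]; group
            rw [e1]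
            exact Subgroup.mem_map_of_mem ρ (L.mul_mem (L.mul_mem (L.mul_mem hk1 hl1) (L.inv_mem hk1)) (L.inv_mem hl1))
          · show ρ q ∈ L.map ρ
            rw [hρQ q hq]; exact Subgroup.one_mem _
        obtain ⟨l, hl, hlP⟩ : P ∈ L.map ρ := hle (T.perf (T.nm π.2))
        refine hP1 (autEnd_injective V ?_)
        rw [map_one]
        refine AddMonoidHom.ext fun w => ?_
        set u := w + (1 + j P + j P * j P) w with hu'
        have hT : j P ((1 + j P + j P * j P) w) = (1 + j P + j P * j P) w := by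
          show (j P * (1 + j P + j P * j P)) w = _
          rw [show j P * (1 + j P + j P * j P) = 1 + j P + j P * j P by
            have : j P * j P * j P = 1 := by rw [jmul, jmul, hPP, map_one]
            rw [mul_add, mul_add, mul_one, ← mul_assoc, this]; abel]
        have hu0 : (1 + j P + j P * j P) u = 0 := by rw [hu', map_add, nrm_fix h2V hT, h2V]
        have hPu : j P u = u := by rw [← hlP]; exact hl.2 u hu0
        rw [nrm_fix h2V hPu] at hu0
        rw [hu', add_eq_zero_iff_eq_neg] at hu0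
        show j P w = w
        rw [hu0, map_neg, hT]
  -- the normalizer of the subgroup of order three
  have hPc : Nat.card ↥(Subgroup.zpowers π) = 3 := by rw [Nat.card_zpowers, hπ]
  let S : Sylow 3 ↥N := Sylow.ofCard (Subgroup.zpowers π) (by
    rw [hPc, T.cardN, T.cardQ, Nat.factorization_mul (by norm_num) (by norm_num), Finsupp.add_apply,
      Nat.factorization_pow]
    simp [Nat.prime_three.factorization_self, Nat.factorization_eq_zero_of_not_dvd (show ¬ 3 ∣ 2 by norm_num)])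
  have hmapS : ((S : Subgroup ↥N)).map N.subtype = Subgroup.zpowers (π : H) := by
    rw [show (S : Subgroup ↥N) = Subgroup.zpowers π from Sylow.coe_ofCard _ _, MonoidHom.map_zpowers]; rfl
  have hsplit : ∀ h : H, ∃ k ∈ Subgroup.normalizer (Subgroup.zpowers (π : H) : Set H), ∃ q ∈ Q, h = k * q := by
    intro h
    have htop := Sylow.normalizer_sup_eq_top S
    rw [hmapS] at htop
    obtain ⟨k, hk, n, hn, rfl⟩ := Subgroup.mem_sup_of_normal_right.1 (htop ▸ Subgroup.mem_top h)
    obtain ⟨q, hq, i, rfl⟩ := hNQ n hn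
    refine ⟨k * (π : H) ^ i, mul_mem hk (Subgroup.le_normalizer (Subgroup.pow_mem _ (Subgroup.mem_zpowers _) i)),
      ((π : H) ^ i)⁻¹ * q * (π : H) ^ i, Subgroup.Normal.conj_mem' inferInstance _ hq _, by group⟩
  refine ⟨π, π.2, hπo, fun q hq hqπ => ?_, ?_, ?_⟩
  · have h1 : ((⟨q, hq⟩ : ↥Q) : V) = 1 := by
      refine Additive.ofMul.injective (hfix (Additive.ofMul ((⟨q, hq⟩ : ↥Q) : V)) ?_)
      show Additive.ofMul (P ((⟨q, hq⟩ : ↥Q) : V)) = _
      rw [hPdef, hρapp]
      congr 3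
      exact mul_inv_eq_iff_eq_mul.2 hqπ.symm
    exact (hZc q ⟨⟨q, hq⟩, (QuotientGroup.eq_one_iff _).1 h1, rfl⟩).1
  · by_contra hno
    push Not at hno
    obtain ⟨k, hk, q, hq, rfl⟩ := hsplit h0
    have hkc := hno k ((Subgroup.mem_normalizer_iff.1 hk _).1 (Subgroup.mem_zpowers _))
    obtain ⟨i, hi⟩ := hinv
    rw [map_mul, hρQ q hq, mul_one] at hi
    have hyP : ρ k * P = P * ρ k := by rw [hPdef, ← map_mul, hkc, map_mul]
    have hyx : ρ k * x * (ρ k)⁻¹ = x ^ 10 := by
      have h10 : x ^ 10 = x⁻¹ := eq_inv_of_mul_eq_one_left (by rw [← pow_succ, hx11])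
      have hc : Commute (P ^ i) (ρ (m : H))⁻¹ := ((show Commute (ρ (m : H)) P from hMP _ m.2).symm.pow_left i).inv_right
      rw [h10, hxdef, ← conj_pow, hi, hc.mul_pow, ← pow_mul, mul_comm i 3, pow_mul, pow_three', hPP, one_pow,
        one_mul, inv_pow]
    refine no_inverter h2V hVcard (p := j P) (x := j x) (y := j (ρ k)) (y' := j (ρ k)⁻¹) ?_ hfix ?_ ?_ ?_ ?_ ?_ ?_ ?_
    · rw [jmul, jmul, hPP, map_one]
    · rw [← map_pow, hx11, map_one]
    · exact fun h => hx1 (autEnd_injective V (h.trans (map_one j).symm))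
    · rw [jmul, jmul]
      exact congrArg j ((show Commute (ρ (m : H)) P from hMP _ m.2).pow_left 3).eq
    · rw [jmul, mul_inv_cancel, map_one]
    · rw [jmul, inv_mul_cancel, map_one]
    · rw [jmul, jmul, hyP]
    · rw [jmul, jmul, hyx, map_pow]
  · set C := Subgroup.centralizer ({(π : H)} : Set H) with hC
    have hMC : ∀ c ∈ M, ∃ k ∈ C ⊓ M, ∃ q ∈ Q, c = k * q := fun c hc => by
      obtain ⟨k, hk, q, hq, rfl⟩ := hsplit c
      have hkM : k ∈ M := (Subgroup.mul_mem_cancel_right _ (T.nm (T.qn hq))).1 hc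
      refine ⟨k, ⟨?_, hkM⟩, q, hq, rfl⟩
      have h1 : k * π * k⁻¹ * (π : H)⁻¹ ∈ Q := T.cent (Subgroup.commutator_mem_commutator hkM π.2)
      have hk' : k * π * k⁻¹ ∈ Subgroup.zpowers (π : H) :=
        (Subgroup.mem_normalizer_iff.1 hk _).1 (Subgroup.mem_zpowers _)
      obtain ⟨i, hi⟩ := Subgroup.mem_zpowers_iff.1 hk'
      have h3 : (k * π * k⁻¹ * (π : H)⁻¹) ^ 3 = 1 := by
        rw [← hi, ← zpow_neg_one, ← zpow_add, ← zpow_natCast, ← zpow_mul, mul_comm, zpow_mul, zpow_natCast, hπ3,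
          one_zpow]
      refine Subgroup.mem_centralizer_singleton_iff.2 (mul_inv_eq_iff_eq_mul.1 ?_)
      exact mul_inv_eq_one.1 (hQ2 _ h1 h3)
    let q' := QuotientGroup.mk' Q
    have hmapM : M.map q' = (C ⊓ M).map q' := by
      refine le_antisymm ?_ (Subgroup.map_mono inf_le_right)
      rintro _ ⟨c, hc, rfl⟩
      obtain ⟨k, hk, q, hq, rfl⟩ := hMC c hc
      exact ⟨k, hk, by rw [map_mul, show q' q = 1 from (QuotientGroup.eq_one_iff q).2 hq, mul_one]⟩
    have h1 : q' π ∈ (⁅C, C⁆).map q' := by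
      obtain ⟨c, hc, q, hq, hcq⟩ := Subgroup.mem_sup_of_normal_right.1 (T.perf (T.nm π.2))
      have h2 : q' c ∈ ⁅M.map q', M.map q'⁆ := Subgroup.map_commutator M M q' ▸ Subgroup.mem_map_of_mem q' hc
      rw [hmapM] at h2
      rw [Subgroup.map_commutator, ← hcq, map_mul, show q' q = 1 from (QuotientGroup.eq_one_iff q).2 hq, mul_one]
      exact Subgroup.commutator_mono (Subgroup.map_mono inf_le_left) (Subgroup.map_mono inf_le_left) h2
    obtain ⟨d, hd, hdq⟩ := h1
    have hdC : d ∈ C := Subgroup.commutator_le_self C hd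
    set r := d⁻¹ * (π : H) with hr
    have hrQ : r ∈ Q := QuotientGroup.eq.1 hdq
    have hrπ : r * π = π * r := by
      have h3 : Commute d (π : H) := Subgroup.mem_centralizer_singleton_iff.1 hdC
      exact (h3.inv_left.mul_left (Commute.refl _)).eq
    have hr1 : ((⟨r, hrQ⟩ : ↥Q) : V) = 1 := by
      refine Additive.ofMul.injective (hfix (Additive.ofMul ((⟨r, hrQ⟩ : ↥Q) : V)) ?_)
      show Additive.ofMul (P ((⟨r, hrQ⟩ : ↥Q) : V)) = _
      rw [hPdef, hρapp]
      congr 3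
      exact mul_inv_eq_iff_eq_mul.2 hrπ.symm
    obtain ⟨hrc, hr2⟩ := hZc r ⟨⟨r, hrQ⟩, (QuotientGroup.eq_one_iff _).1 hr1, rfl⟩
    have e4 : (π : H) = d ^ 4 := by
      calc (π : H) = (π : H) ^ 4 := by rw [pow_succ, hπ3, one_mul]
        _ = (d * r) ^ 4 := by rw [hr, mul_inv_cancel_left]
        _ = d ^ 4 := by rw [(show Commute d r from hrc d).mul_pow, show r ^ 4 = (r * r) * (r * r) by simp only [pow_succ, pow_zero, one_mul, mul_assoc], hr2, one_mul, mul_one]
    rw [e4]
    exact Subgroup.pow_mem _ hd 4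

end Data

end CfsgLib.JFourConv
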