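import Cfsg.Prelude.Def_JankoFourType
import Cfsg.Agent.Lib.JFourConv.Cover

/-!
# The type from the centralizer with a threefold cover
-/

set_option autoImplicit false
set_option maxRecDepth 100000
set_option linter.style.haveILetI false

open Cfsg
open scoped commutatorElement

namespace CfsgLib.JFourConv

/-- Extraspecial groups correspond under isomorphisms. -/
theorem isExtraspecial_congr {p : ℕ} {E E' : Type*} [Group E] [Group E'] (e : E ≃* E')
    (h : Cfsg.IsExtraspecial p E) : Cfsg.IsExtraspecial p E' := by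
  obtain ⟨⟨hp, hf, hc⟩, hcard⟩ := h
  have hcen : (Subgroup.center E).map e.toMonoidHom = Subgroup.center E' := by
    ext y
    constructor
    · rintro ⟨a, ha, rfl⟩
      exact Subgroup.mem_center_iff.2 fun g => by
        obtain ⟨g, rfl⟩ := e.surjective g
        show e g * e a = e a * e g
        rw [← map_mul, ← map_mul, Subgroup.mem_center_iff.1 ha g]
    · intro hy
      refine ⟨e.symm y, Subgroup.mem_center_iff.2 fun g => e.injective ?_, e.apply_symm_apply y⟩
      rw [map_mul, map_mul, e.apply_symm_apply, Subgroup.mem_center_iff.1 hy (e g)]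
  have hfr : (frattini E).map e.toMonoidHom = frattini E' := by
    refine le_antisymm (Subgroup.map_le_iff_le_comap.2
      (frattini_le_comap_frattini_of_surjective e.surjective)) fun y hy => ?_
    exact ⟨e.symm y, frattini_le_comap_frattini_of_surjective (φ := e.symm.toMonoidHom)
      e.symm.surjective hy, e.apply_symm_apply y⟩
  have hcm : (commutator E).map e.toMonoidHom = commutator E' := by
    rw [commutator_def, commutator_def, Subgroup.map_commutator,
      Subgroup.map_top_of_surjective _ e.surjective]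
  refine ⟨⟨hp.of_equiv e, ?_, ?_⟩, ?_⟩
  · rw [← hfr, ← hcen, hf]
  · rw [← hcm, ← hcen, hc]
  · rw [← hcen, Subgroup.card_map_of_injective e.injective, hcard]

/-- Such a centralizer makes the group one of the type. -/
theorem isOfType {G : Type*} [Group G] [Finite G] {t : G} (ht : orderOf t = 2)
    {Q N M : Subgroup (Subgroup.centralizer ({t} : Set G))} [Q.Normal] [N.Normal] [M.Normal] (T : Data Q N M)
    (e : ↥M ⧸ N.subgroupOf M ≃* ↥Cfsg.Spor.M22) :
    IsOfJankoFourTypeAt t := by
  classical
  obtain ⟨π, hπN, hπ3, hfix, ⟨h0, hh0, hne⟩, hder⟩ := T.exists_three e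
  have hcore : twoCoreOfCentralizer t = Q.map (Subgroup.centralizer ({t} : Set G)).subtype := by
    unfold twoCoreOfCentralizer
    rw [T.core_eq e]
  have hinj : Function.Injective (Subgroup.centralizer ({t} : Set G)).subtype := (Subgroup.centralizer ({t} : Set G)).subtype_injective
  have hNcomap : (N.map (Subgroup.centralizer ({t} : Set G)).subtype).subgroupOf (Subgroup.centralizer ({t} : Set G)) = N := Subgroup.comap_map_eq_self_of_injective hinj N
  obtain ⟨φ, hφs, hφk, -⟩ := T.exists_toAut e
  have hpi : ∀ x : (Subgroup.centralizer ({t} : Set G)), (x : G) ∈ Subgroup.zpowers (π : G) ↔ x ∈ Subgroup.zpowers π := fun x => by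
    rw [show Subgroup.zpowers (π : G) = (Subgroup.zpowers π).map (Subgroup.centralizer ({t} : Set G)).subtype from (MonoidHom.map_zpowers (Subgroup.centralizer ({t} : Set G)).subtype π).symm]
    exact Subgroup.mem_map_iff_mem hinj
  have htH : t ∈ (Subgroup.centralizer ({t} : Set G)) := Subgroup.mem_centralizer_singleton_iff.2 rfl
  have htc : ∀ x : (Subgroup.centralizer ({t} : Set G)), x * (⟨t, htH⟩ : (Subgroup.centralizer ({t} : Set G))) = (⟨t, htH⟩ : (Subgroup.centralizer ({t} : Set G))) * x := fun x =>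
    Subtype.ext (Subgroup.mem_centralizer_singleton_iff.1 x.2)
  have htQ : (⟨t, htH⟩ : (Subgroup.centralizer ({t} : Set G))) ∈ Q := T.self (Subgroup.mem_centralizer_iff.2 fun q _ => htc q)
  have hex : IsExtraspecial 2 ↥(twoCoreOfCentralizer t) := by
    rw [hcore]
    exact isExtraspecial_congr (Q.equivMapOfInjective _ hinj) T.extra
  have hcard : ∀ S : Subgroup (Subgroup.centralizer ({t} : Set G)), Nat.card ↥(S.map (Subgroup.centralizer ({t} : Set G)).subtype) = Nat.card ↥S := fun S =>
    Subgroup.card_map_of_injective hinj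
  refine ⟨Subgroup.zpowers (π : G), ht, hex, by rw [hcore, hcard, T.cardQ], ?_, ⟨N.map (Subgroup.centralizer ({t} : Set G)).subtype, ?_,
    Subgroup.map_subtype_le N, ?_, ?_, ?_, ?_⟩, ?_, ?_, ?_, ?_⟩
  · intro x hx
    rw [hcore] at hx ⊢
    refine ⟨⟨x, hx.1⟩, T.self (Subgroup.mem_centralizer_iff.2 fun q hq => Subtype.ext ?_), rfl⟩
    exact Subgroup.mem_centralizer_iff.1 hx.2 q ⟨q, hq, rfl⟩
  · rw [hcore]; exact Subgroup.map_mono T.qn
  · intro h hh
    rw [Subgroup.mem_normalizer_iff]
    intro x
    constructor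
    · rintro ⟨n, hn, rfl⟩
      exact ⟨⟨h, hh⟩ * n * ⟨h, hh⟩⁻¹, Subgroup.Normal.conj_mem inferInstance n hn _, rfl⟩
    · rintro ⟨n, hn, he⟩
      refine ⟨(⟨h, hh⟩ : (Subgroup.centralizer ({t} : Set G)))⁻¹ * n * ⟨h, hh⟩, Subgroup.Normal.conj_mem' inferInstance n hn _, ?_⟩
      have he' : (n : G) = h * x * h⁻¹ := he
      simp only [Subgroup.coe_subtype, Subgroup.coe_mul, InvMemClass.coe_inv, he']
      group
  · rw [hcore, hcard, hcard, T.cardN]
  · haveI hn : ((N.map (Subgroup.centralizer ({t} : Set G)).subtype).subgroupOf (Subgroup.centralizer ({t} : Set G))).Normal := by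
      rw [hNcomap]; infer_instance
    refine ⟨hn, ⟨?_⟩⟩
    exact (QuotientGroup.quotientMulEquivOfEq (hNcomap.trans hφk.symm)).trans
      (QuotientGroup.quotientKerEquivOfSurjective φ hφs)
  · exact Subgroup.zpowers_le.2 ⟨π, hπN, rfl⟩
  · rw [Nat.card_zpowers, Subgroup.orderOf_coe, hπ3]
  · refine le_antisymm (fun x hx => ?_) (Subgroup.zpowers_le.2 ⟨hcore.ge ⟨_, htQ, rfl⟩, ?_⟩)
    · obtain ⟨q, hq, rfl⟩ := hcore.le hx.1
      have hcomm : q * π = π * q :=
        Subtype.ext (Subgroup.mem_centralizer_iff.1 hx.2 π (Subgroup.mem_zpowers _)).symm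
      have hc := hfix q hq hcomm
      have hqc : (⟨q, hq⟩ : ↥Q) ∈ Subgroup.center ↥Q :=
        Subgroup.mem_center_iff.2 fun w => Subtype.ext (hc w)
      have htcz : (⟨⟨t, htH⟩, htQ⟩ : ↥Q) ∈ Subgroup.center ↥Q :=
        Subgroup.mem_center_iff.2 fun w => Subtype.ext (htc w)
      have heq : Subgroup.zpowers (⟨⟨t, htH⟩, htQ⟩ : ↥Q) = Subgroup.center ↥Q :=
        Subgroup.eq_of_le_of_card_ge (Subgroup.zpowers_le.2 htcz) (by
          rw [T.extra.2, Nat.card_zpowers, Subgroup.orderOf_mk, Subgroup.orderOf_mk, ht])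
      obtain ⟨i, hi⟩ := Subgroup.mem_zpowers_iff.1 (heq.ge hqc)
      refine Subgroup.mem_zpowers_iff.2 ⟨i, ?_⟩
      simpa using congrArg (fun w : ↥Q => ((w : (Subgroup.centralizer ({t} : Set G))) : G)) hi
    · refine Subgroup.mem_centralizer_iff.2 fun y hy => ?_
      obtain ⟨i, rfl⟩ := Subgroup.mem_zpowers_iff.1 hy
      exact ((show Commute (π : G) t from Subgroup.mem_centralizer_singleton_iff.1 π.2).zpow_left i).eq
  · intro heq
    apply hne
    have hmem : (h0 : G) ∈ (Subgroup.centralizer ({t} : Set G)) ⊓ Subgroup.normalizer (Subgroup.zpowers (π : G) : Set G) := by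
      refine ⟨h0.2, ?_⟩
      have hle : (Subgroup.zpowers (π : G)).map (MulAut.conj (h0 : G)).toMonoidHom = Subgroup.zpowers (π : G) := by
        refine Subgroup.eq_of_le_of_card_ge ?_ (by rw [Subgroup.card_map_of_injective (MulAut.conj (h0 : G)).injective])
        rw [Subgroup.map_le_iff_le_comap, Subgroup.zpowers_le]
        exact (hpi (h0 * π * h0⁻¹)).2 hh0
      show (h0 : G) ∈ Subgroup.normalizer (Subgroup.zpowers (π : G) : Set G)
      rw [Subgroup.mem_normalizer_iff]
      intro x
      conv_rhs => rw [← hle]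
      exact (Subgroup.mem_map_iff_mem (MulAut.conj (h0 : G)).injective).symm
    have h2 := (heq ▸ hmem).2
    exact Subtype.ext ((Subgroup.mem_centralizer_iff.1 h2 π (Subgroup.mem_zpowers _)).symm)
  · refine Subgroup.zpowers_le.2 ?_
    have h1 : (π : G) ∈ (⁅Subgroup.centralizer ({π} : Set (Subgroup.centralizer ({t} : Set G))), Subgroup.centralizer ({π} : Set (Subgroup.centralizer ({t} : Set G)))⁆).map (Subgroup.centralizer ({t} : Set G)).subtype :=
      ⟨π, hder, rfl⟩
    rw [Subgroup.map_commutator] at h1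
    refine Subgroup.commutator_mono ?_ ?_ h1
    all_goals
      rintro _ ⟨c, hc, rfl⟩
      refine ⟨c.2, Subgroup.mem_centralizer_iff.2 fun y hy => ?_⟩
      obtain ⟨i, rfl⟩ := Subgroup.mem_zpowers_iff.1 hy
      have := congrArg Subtype.val (Subgroup.mem_centralizer_singleton_iff.1 hc)
      exact ((show Commute (c : G) π from this).zpow_right i).symm.eq

end CfsgLib.JFourConv
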